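import Mathlib

/-!
The equations of the standard configuration for the normalizer of `3³` in `A₉`.
-/

set_option autoImplicit false

namespace CfsgLib.SmallGroups.AltNineNormalizer

/-- The rigid system: the degrees are those of the known configuration. -/
theorem rigid {A B C g h P R : ℝ} (hA : A ≠ 0) (hB : B ≠ 0) (hC : C ≠ 0) (hBC : B + C ≠ 0) (hBA : B - A ≠ 0)
    (he : A - C - 1 ≠ 0) (hf : A + C - 1 ≠ 0)
    (eX : R ^ 2 / C + R ^ 2 / (-B - C) = 2 / 3) (eY : P ^ 2 / A + P ^ 2 / (B - A) = 8 / 3)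
    (w1 : g ^ 2 + R ^ 2 / C + (R + g) ^ 2 / (A - C - 1) = 1)
    (w2 : g * h - (R + g) * (P - h) / (A - C - 1) = 2 / 3)
    (w3 : h ^ 2 - P ^ 2 / A + (P - h) ^ 2 / (A - C - 1) = 4 / 3)
    (v1 : g ^ 2 - R ^ 2 / C + (R - g) ^ 2 / (A + C - 1) = 2 / 3)
    (v2 : g * h + (R - g) * (P - h) / (A + C - 1) = 4 / 3)
    (v3 : h ^ 2 - P ^ 2 / A + (P - h) ^ 2 / (A + C - 1) = 0) :
    B - A = 2 ∧ P = -2 * h ∧ g ≠ 0 := by
  have hBC' : -B - C ≠ 0 := fun e => hBC (by linarith)
  obtain ⟨u, rfl⟩ : ∃ u, R = u * C := ⟨R / C, by field_simp⟩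
  obtain ⟨p, rfl⟩ : ∃ p, P = p * A := ⟨P / A, by field_simp⟩
  obtain ⟨m, hm⟩ : ∃ m, h = p * A - m := ⟨p * A - h, by ring⟩
  subst hm
  simp only [sub_sub_cancel] at w2 w3 v2 v3
  set n := A - 1 with hn
  have hA' : A = n + 1 := by rw [hn]; ring
  -- the square of the gap
  have k1 : 3 * C * m ^ 2 = 2 * ((A - C - 1) * (A + C - 1)) := by
    have e : m ^ 2 / (A - C - 1) - m ^ 2 / (A + C - 1) = 4 / 3 := by linarith
    field_simp at e
    linear_combination e / 2
  have hm0 : m ≠ 0 := by
    rintro rfl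
    rcases mul_eq_zero.mp (show (A - C - 1) * (A + C - 1) = 0 by linarith) with e | e
    exacts [he e, hf e]
  have k2 : m = 2 * (g + u * n) := by
    have e : ((u * C - g) * m) / (A + C - 1) + ((u * C + g) * m) / (A - C - 1) = 2 / 3 := by linarith
    field_simp at e
    have e' : C * m * (m - 2 * (g + u * n)) = 0 := by rw [hn]; linear_combination -(e / 3) + k1 / 3
    rcases mul_eq_zero.mp e' with e0 | e0
    · exact absurd e0 (mul_ne_zero hC hm0)
    · linarith
  have hg : g = m / 2 - u * n := by linarith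
  subst hg
  -- the two products
  have e1 : (m / 2 - u * n) ^ 2 - u ^ 2 * C +
      (u ^ 2 * (A + C - 1) - u * m + m ^ 2 / 4 / (A + C - 1)) = 2 / 3 := by
    rw [← v1]; field_simp; rw [hn]; ring
  have k3 : A * (m / 2 - u * n) * (p - 2 * u) = 8 / 3 := by
    have e2 : (m / 2 - u * n) * (p * A - m) + (u * m - m ^ 2 / 2 / (A + C - 1)) = 4 / 3 := by
      rw [← v2]; field_simp; rw [hn]; ring
    rw [hn] at e1 e2 ⊢
    linear_combination 2 * e1 + e2
  have k4 : A * (p - 2 * u) * (n * (p + 2 * u) - 2 * m) = -(8 / 3) := by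
    have e3 : (p * A - m) ^ 2 - p ^ 2 * A + m ^ 2 / (A + C - 1) = 0 := by
      rw [← v3]; field_simp
    rw [hn] at e1 ⊢
    linear_combination e3 - 4 * e1
  have hAk : A * (p - 2 * u) ≠ 0 := fun e => by
    have : A * (m / 2 - u * n) * (p - 2 * u) = 0 := by linear_combination (m / 2 - u * n) * e
    linarith
  have k5 : 3 * (m / 2) = n * (p + u) := by
    have e : A * (p - 2 * u) * (n * (p + u) - 3 * (m / 2)) = 0 := by linear_combination k3 + k4
    linarith [(mul_eq_zero.mp e).resolve_left hAk]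
  obtain ⟨k, rfl⟩ : ∃ k, p = k + 2 * u := ⟨p - 2 * u, by ring⟩
  have hm' : m = 2 / 3 * n * (k + 3 * u) := by linarith
  subst hm'
  have k6 : A * n * k ^ 2 = 8 := by linear_combination 3 * k3
  have hn0 : n ≠ 0 := fun e => by rw [e] at k6; norm_num at k6
  -- the middle degree
  have k7' : C * n * (k + 3 * u) ^ 2 = 2 * (n + C) := by
    field_simp at e1
    rw [hA'] at e1 k6
    linear_combination (-(1 / 4 : ℝ)) * e1 + (n + C) * k6
  have k7 : n = -3 * C := by
    rw [hA'] at k1
    have e' : (n + C) * (n + 3 * C) = 0 := by linear_combination (3 / 2) * k1 - 2 * n * k7'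
    rcases mul_eq_zero.mp e' with e0 | e0
    · exact absurd (show A + C - 1 = 0 by rw [hA']; linarith) hf
    · linarith
  have k8 : n * (k + 3 * u) ^ 2 = -4 := by
    have e : C * (n * (k + 3 * u) ^ 2 + 4) = 0 := by linear_combination k7' + 2 * k7
    linarith [(mul_eq_zero.mp e).resolve_left hC]
  -- eliminate `B`
  have bX : 3 * u ^ 2 * C * B = 2 * B + 2 * C := by
    field_simp at eX; linear_combination -eX
  have bY : 3 * (k + 2 * u) ^ 2 * A * B = 8 * B - 8 * A := by
    field_simp at eY; linear_combination eY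
  have k9 : 3 * n * A * (k * u) = 4 * (n + 3) := by
    have e : B * (3 * n * A * (k * u) - 4 * (n + 3)) = 0 := by
      rw [hA'] at bY k6 ⊢
      linear_combination 9 * (n + 1) * bX - 3 * (n + 1) * (3 * u ^ 2 * B - 2) * k7 - 3 / 4 * n * bY +
        B / 4 * k6 + 2 * (n + 1) * B * k8
    linarith [(mul_eq_zero.mp e).resolve_left hB]
  have k10 : (n + 9) * (n + 3) = 0 := by
    have e1 : n * A * (k * (k + 3 * u)) = 4 * (n + 5) := by linear_combination k6 + k9
    rw [hA'] at e1 k6
    linear_combination -(n * (n + 1) * (k * (k + 3 * u)) + 4 * (n + 5)) / 16 * e1 +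
      (n * (k + 3 * u) ^ 2 * (n + 1)) / 16 * k6 + (n + 1) / 2 * k8
  rcases mul_eq_zero.mp k10 with e | e
  · have hAv : A = -8 := by linarith
    have hCv : C = 3 := by linarith
    have hnv : n = -9 := by linarith
    rw [hAv, hnv] at k6 k9
    have hk : k ^ 2 = 1 / 9 := by linarith
    have hku : k * u = -1 / 9 := by linarith
    have hu : u = -k := by linear_combination -9 * u * hk + 9 * k * hku
    subst hu
    rw [hCv] at bX
    refine ⟨?_, ?_, ?_⟩
    · have : B * (3 * k ^ 2 * 3) = 2 * B + 6 := by linear_combination bX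
      rw [hk] at this
      linarith
    · rw [hAv, hnv]; ring
    · rw [hnv]
      intro h0
      have : k = 0 := by linarith
      rw [this] at hk; norm_num at hk
  · exfalso
    have hCv : C = 1 := by linarith
    have hnv : n = -3 := by linarith
    have hAv : A = -2 := by linarith
    rw [hAv, hnv] at k9 k6
    have hu : u = 0 := by
      rcases mul_eq_zero.mp (show k * u = 0 by linarith) with e0 | e0
      · rw [e0] at k6; norm_num at k6
      · exact e0
    rw [hu, hCv] at bX
    exact hBC (by linarith)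

end CfsgLib.SmallGroups.AltNineNormalizer
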