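import Cfsg.Agent.Lib.SmallGroups.AltNineNormalizer.Frame
import Mathlib

/-!
The six rows force a point of degree two with trivial second class value.
-/

set_option autoImplicit false
set_option maxHeartbeats 1000000

namespace CfsgLib.SmallGroups.AltNineNormalizer

open CfsgLib.SmallGroups.ThreeCube (four_support)

variable {ι : Type*} [Fintype ι] {c : Fin 6 → ι → ℤ} {d : ι → ℤ} {o : ι} {y z : ι → ℝ}

theorem Frame.config (h : Sys c d o y z) {m a b p s u v : ι} (f : Frame c o y z m a b p s u v)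
    (h2b : c 2 b = 0) (h2a : c 2 a = c 0 a) : d s = 2 ∧ z s = 2 * z o ∧ y s ≠ 2 * y o := by
  classical
  obtain ⟨hma, hmb, hab⟩ := f.ne0
  obtain ⟨hm, ha, hb, hz0⟩ := f.row0
  obtain ⟨hYm, hYa, hYb⟩ := f.row01
  obtain ⟨hmp, hms, hps⟩ := f.ne1
  obtain ⟨hp, hs, hz1⟩ := f.row1
  obtain ⟨hpu, h4p, hu, hzu, hXu, hYu⟩ := f.row4
  obtain ⟨nom, noa, nob, nop, nos, nou, nov⟩ := f.ne2
  obtain ⟨ym, zm, za, zb, yp, ys, yu, yv, zv, zu⟩ := f.zeros
  have hap : a ≠ p := fun e => unit_ne_zero hp (e ▸ hYa)
  have has : a ≠ s := fun e => unit_ne_zero hs (e ▸ hYa)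
  have hau : a ≠ u := fun e => unit_ne_zero ha (e ▸ hXu)
  have hbp : b ≠ p := fun e => unit_ne_zero hp (e ▸ hYb)
  have hbs : b ≠ s := fun e => unit_ne_zero hs (e ▸ hYb)
  have hbu : b ≠ u := fun e => unit_ne_zero hb (e ▸ hXu)
  have hsu : s ≠ u := fun e => unit_ne_zero hs (e ▸ hYu)
  have n2 : ∑ χ, c 2 χ * c 2 χ = 4 := h.gram 2 2
  have n3 : ∑ χ, c 3 χ * c 3 χ = 4 := h.gram 3 3
  obtain ⟨hW2m, hW2v, -, hy2⟩ := f.row h (r := 2) (σ := 1) (by norm_num) (h.triv 2) n2 (h.gram 0 2) (h.gram 1 2)
    (h.gram 4 2) (h.gram 5 2) (by simp [kVV])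
  obtain ⟨hW3m, hW3v, hx3, hy3⟩ := f.row h (r := 3) (σ := -1) (by norm_num) (h.triv 3) n3 (h.gram 0 3) (h.gram 1 3)
    (h.gram 4 3) (h.gram 5 3) (by simp [kVV])
  have o2 : c 2 o = 1 := h.triv 2
  have o3 : c 3 o = 1 := h.triv 3
  -- the two possible supports
  have shape : ∀ (r : Fin 6) (x : ι), c r o = 1 → (∑ χ, c r χ * c r χ = 4) → c r x * c r x = 1 → o ≠ x → x ≠ p →
      x ≠ s → x ≠ u → c r m = 0 → c r v = 0 →
      ((c r p = -c 1 p ∧ c r s = 0 ∧ c r u = 0) → ∃ e, e ≠ o ∧ e ≠ x ∧ e ≠ p ∧ c r e * c r e = 1 ∧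
        ∀ χ, χ ≠ o → χ ≠ x → χ ≠ p → χ ≠ e → c r χ = 0) ∧
      ((c r p = 0 ∧ c r s = -c 1 s ∧ c r u = -c 4 u) → ∀ χ, χ ≠ o → χ ≠ x → χ ≠ s → χ ≠ u → c r χ = 0) := by
    intro r x ho hn hx nox nxp nxs nxu _ _
    obtain ⟨w, hwinj, hw, hwz⟩ := four_support (f := c r) hn (ξ := o) (by rw [ho]; norm_num)
    have mem : ∀ χ, χ ≠ o → c r χ ≠ 0 → ∃ k, w k = χ := fun χ h1 h2 => by
      by_contra hh; push Not at hh; exact h2 (hwz χ h1 hh)
    obtain ⟨k₁, hk₁⟩ := mem x nox.symm (unit_ne_zero hx)
    constructor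
    · rintro ⟨e1, -, -⟩
      obtain ⟨k₂, hk₂⟩ := mem p nop.symm (by rw [e1]; exact neg_ne_zero.mpr (unit_ne_zero hp))
      have n12 : k₁ ≠ k₂ := fun e => nxp (hk₁ ▸ hk₂ ▸ e ▸ rfl)
      obtain ⟨k₃, n31, n32⟩ := (by decide : ∀ i j : Fin 3, ∃ k, k ≠ i ∧ k ≠ j) k₁ k₂
      refine ⟨w k₃, (hw k₃).1, fun e => n31 (hwinj (e.trans hk₁.symm)), fun e => n32 (hwinj (e.trans hk₂.symm)),
        (hw k₃).2, fun χ a1 a2 a3 a4 => hwz χ a1 fun k e => ?_⟩
      rcases (by omega : k = k₁ ∨ k = k₂ ∨ k = k₃) with rfl | rfl | rfl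
      exacts [a2 (e ▸ hk₁), a3 (e ▸ hk₂), a4 e.symm]
    · rintro ⟨-, e1, e2⟩
      obtain ⟨k₂, hk₂⟩ := mem s nos.symm (by rw [e1]; exact neg_ne_zero.mpr (unit_ne_zero hs))
      obtain ⟨k₃, hk₃⟩ := mem u nou.symm (by rw [e2]; exact neg_ne_zero.mpr (unit_ne_zero hu))
      have n12 : k₁ ≠ k₂ := fun e => nxs (hk₁ ▸ hk₂ ▸ e ▸ rfl)
      have n13 : k₁ ≠ k₃ := fun e => nxu (hk₁ ▸ hk₃ ▸ e ▸ rfl)
      have n23 : k₂ ≠ k₃ := fun e => hsu (hk₂ ▸ hk₃ ▸ e ▸ rfl)
      intro χ a1 a2 a3 a4
      refine hwz χ a1 fun k e => ?_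
      rcases (by omega : k = k₁ ∨ k = k₂ ∨ k = k₃) with rfl | rfl | rfl
      exacts [a2 (e ▸ hk₁), a3 (e ▸ hk₂), a4 (e ▸ hk₃)]
  have e23 : ∑ χ, c 2 χ * c 3 χ = 1 := h.gram 2 3
  have hW2a : c 2 a * c 2 a = 1 := by rw [h2a]; exact ha
  obtain ⟨sh2, sh2'⟩ := shape 2 a o2 n2 hW2a noa hap has hau hW2m hW2v
  have eX : (c 0 a : ℝ) * (y a * y a / d a) + (c 0 b : ℝ) * (y b * y b / d b) = 2 / 3 := by
    have q := h.qyy 0
    rw [expand_three hma hmb hab hz0, ym] at q
    simpa [kVV] using q
  have lX : (c 0 a : ℝ) * y a + (c 0 b : ℝ) * y b = 0 := by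
    have q := h.sum_y 0
    rw [expand_three hma hmb hab hz0, ym] at q
    simpa using q
  have dao : (d o : ℝ) = 1 := by exact_mod_cast h.deg_o
  rcases hy2 with hy2 | hy2
  · obtain ⟨e, neo, nea, nep, he, hze⟩ := sh2 hy2
    have x23 := expand_four (R := ℤ) noa nop neo.symm hap nea.symm nep.symm hze (c 3)
    simp only [Int.cast_id] at x23
    rw [x23, o2, o3, h2a, hy2.1] at e23
    rcases hx3 with ⟨h3a, h3b⟩ | ⟨h3a, h3b⟩
    · obtain ⟨sh3, -⟩ := shape 3 a o3 n3 (by rw [h3a]; linear_combination ha) noa hap has hau hW3m hW3v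
      rcases hy3 with hy3 | hy3
      · -- the true configuration
        obtain ⟨e', neo', nea', nep', he', hze'⟩ := sh3 hy3
        have hYd := h.sum_d 1
        have x1 := expand_three (R := ℤ) hmp hms hps hz1 d
        have hXd := h.sum_d 0
        have x0 := expand_three (R := ℤ) hma hmb hab hz0 d
        have h2d := h.sum_d 2
        have x2 := expand_four (R := ℤ) noa nop neo.symm hap nea.symm nep.symm hze d
        have h3d := h.sum_d 3
        have x3 := expand_four (R := ℤ) noa nop neo'.symm hap nea'.symm nep'.symm hze' d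
        simp only [Int.cast_id] at x1 x0 x2 x3
        rw [x1, hYm] at hYd
        rw [x0] at hXd
        rw [x2, o2, h2a, hy2.1, h.deg_o] at h2d
        rw [x3, o3, h3a, hy3.1, h.deg_o] at h3d
        have lY : (c 1 p : ℝ) * z p + (c 1 s : ℝ) * z s = 0 := by
          have q := h.sum_z 1
          rw [expand_three hmp hms hps hz1, zm] at q
          simpa using q
        have eY : (c 1 p : ℝ) * (z p * z p / d p) + (c 1 s : ℝ) * (z s * z s / d s) = 8 / 3 := by
          have q := h.qzz 1
          rw [expand_three hmp hms hps hz1, zm] at q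
          simpa [kZZ] using q
        have l2y := h.sum_y 2
        have l2z := h.sum_z 2
        have q2a := h.qyy 2
        have q2b := h.qyz 2
        have q2c := h.qzz 2
        rw [expand_four noa nop neo.symm hap nea.symm nep.symm hze, o2, h2a, hy2.1] at l2y l2z q2a q2b q2c
        have l3y := h.sum_y 3
        have l3z := h.sum_z 3
        have q3a := h.qyy 3
        have q3b := h.qyz 3
        have q3c := h.qzz 3
        rw [expand_four noa nop neo'.symm hap nea'.symm nep'.symm hze', o3, h3a, hy3.1] at l3y l3z q3a q3b q3c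
        simp only [yp, za, dao, kVV, kVZ, kZZ, Matrix.cons_val] at l2y l2z q2a q2b q2c l3y l3z q3a q3b q3c
        push_cast at l2y l2z q2a q2b q2c l3y l3z q3a q3b q3c
        set A := (c 1 p : ℝ) * d p with hA
        set B := (c 0 m : ℝ) * d m with hB
        set C := (c 0 a : ℝ) * d a with hC
        set R := (c 0 a : ℝ) * y a with hR
        set P := (c 1 p : ℝ) * z p with hP
        have db : (c 0 b : ℝ) * d b = -B - C := by
          have : (c 0 m : ℝ) * d m + c 0 a * d a + c 0 b * d b = 0 := by exact_mod_cast hXd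
          linarith
        have ds : (c 1 s : ℝ) * d s = B - A := by
          have : -(c 0 m : ℝ) * d m + c 1 p * d p + c 1 s * d s = 0 := by exact_mod_cast hYd
          linarith
        have de : (c 2 e : ℝ) * d e = A - C - 1 := by
          have : (1 : ℝ) * 1 + c 0 a * d a + -(c 1 p : ℝ) * d p + c 2 e * d e = 0 := by exact_mod_cast h2d
          linarith
        have de' : (c 3 e' : ℝ) * d e' = A + C - 1 := by
          have : (1 : ℝ) * 1 + -(1 : ℝ) * c 0 a * d a + -(c 1 p : ℝ) * d p + c 3 e' * d e' = 0 := by exact_mod_cast h3d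
          linarith
        have nz : ∀ {r : Fin 6} {χ : ι}, c r χ * c r χ = 1 → (c r χ : ℝ) * d χ ≠ 0 := fun hh =>
          mul_ne_zero (by exact_mod_cast unit_ne_zero hh) (by exact_mod_cast (h.pos _).ne')
        have nA : A ≠ 0 := nz hp
        have nB : B ≠ 0 := nz hm
        have nC : C ≠ 0 := nz ha
        have nBC : B + C ≠ 0 := fun e0 => nz hb (by linarith)
        have nBA : B - A ≠ 0 := ds ▸ nz hs
        have ne' : A - C - 1 ≠ 0 := de ▸ nz he
        have nf : A + C - 1 ≠ 0 := de' ▸ nz he'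
        obtain ⟨hBA, hPh, hg⟩ := rigid (g := y o) (h := z o) (P := P) (R := R) nA nB nC nBC nBA ne' nf
          (Eq.trans (by rw [term_signed ha, term_signed hb, db, show (c 0 b : ℝ) * y b = -R by linarith]; ring) eX)
          (Eq.trans (by rw [term_signed hp, term_signed hs, ds, show (c 1 s : ℝ) * z s = -P by linarith]; ring) eY)
          (Eq.trans (by rw [term_signed ha, term_signed he, de,
                show (c 2 e : ℝ) * y e = -(R + y o) by linarith]; ring) q2a)
          (Eq.trans (by rw [term_signed he, de, show (c 2 e : ℝ) * y e = -(R + y o) by linarith,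
                show (c 2 e : ℝ) * z e = P - z o by linarith]; ring) q2b)
          (Eq.trans (by simp only [neg_mul]; rw [term_signed hp, term_signed he, de,
                show (c 2 e : ℝ) * z e = P - z o by linarith]; ring) q2c)
          (Eq.trans (by rw [show ((-1 : ℝ) * c 0 a) * (y a * y a / d a) = -((c 0 a : ℝ) * (y a * y a / d a)) by ring,
                term_signed ha, term_signed he', de', show (c 3 e' : ℝ) * y e' = R - y o by linarith]; ring) q3a)
          (Eq.trans (by rw [term_signed he', de', show (c 3 e' : ℝ) * y e' = R - y o by linarith,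
                show (c 3 e' : ℝ) * z e' = P - z o by linarith]; ring) q3b)
          (Eq.trans (by simp only [neg_mul]; rw [term_signed hp, term_signed he', de',
                show (c 3 e' : ℝ) * z e' = P - z o by linarith]; ring) q3c)
        rw [← ds] at hBA
        have hcs : c 1 s = 1 := by
          have hi : c 1 s * d s = 2 := by exact_mod_cast hBA
          rcases Int.eq_one_or_neg_one_of_mul_eq_one hs with e1 | e1
          · exact e1
          · rw [e1] at hi; have := h.pos s; omega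
        rw [hcs] at hBA lY
        push_cast at hBA lY
        refine ⟨by exact_mod_cast (show (d s : ℝ) = 2 by linarith), by linarith, fun h0 => hg ?_⟩
        rw [ys] at h0
        linarith
      · exfalso
        rw [h3a, hy3.1, shape 3 a o3 n3 (by rw [h3a]; linear_combination ha) noa hap has hau hW3m hW3v |>.2 hy3 e
          neo nea (fun e0 => unit_ne_zero he (e0 ▸ hy2.2.1)) (fun e0 => unit_ne_zero he (e0 ▸ hy2.2.2))] at e23
        have := e23
        ring_nf at this
        rw [show c 0 a ^ 2 = 1 by rw [sq]; exact ha] at this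
        omega
    · exfalso
      obtain ⟨sh3, sh3'⟩ := shape 3 b o3 n3 (by rw [h3b]; linear_combination hb) nob hbp hbs hbu hW3m hW3v
      rw [h3a, mul_zero, add_zero] at e23
      have l2y := h.sum_y 2
      rw [expand_four noa nop neo.symm hap nea.symm nep.symm hze, o2, h2a, yp] at l2y
      have q2 := h.qyy 2
      rw [expand_four noa nop neo.symm hap nea.symm nep.symm hze, o2, h2a, yp] at q2
      simp only [mul_zero, zero_mul, zero_div, add_zero, dao, kVV, Matrix.cons_val, Int.cast_one, one_mul,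
        div_one] at l2y q2
      rcases hy3 with hy3 | hy3
      · obtain ⟨e', neo', nea', nep', he', hze'⟩ := sh3 hy3
        rw [hy3.1] at e23
        have he3 : c 3 e = -c 2 e := by linear_combination c 2 e * e23 - c 3 e * he - c 2 e * hp
        have hee : e = e' := by
          by_contra hne
          have h0 : c 3 e = 0 := hze' e neo
            (fun e0 => by rw [e0, h2b] at he; norm_num at he) nep hne
          rw [h0] at he3
          exact unit_ne_zero he (neg_eq_zero.mp he3.symm)
        subst hee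
        have l3y := h.sum_y 3
        have l2z := h.sum_z 2
        have l3z := h.sum_z 3
        have q2b := h.qyz 2
        have q3b := h.qyz 3
        rw [expand_four noa nop neo.symm hap nea.symm nep.symm hze, o2, h2a, hy2.1, za] at l2z q2b
        rw [expand_four nob nop neo.symm hbp nea'.symm nep.symm hze', o3, h3b, hy3.1, he3] at l3y l3z q3b
        simp only [yp, zb, za, dao, kVZ, Matrix.cons_val] at l3y l3z q2b q3b l2z
        push_cast at l3y l3z q2b q3b l2z
        have ye : (c 2 e : ℝ) * y e = 0 := by linarith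
        have ze : (c 2 e : ℝ) * z e = 0 := by linarith
        have hc : (c 2 e : ℝ) ≠ 0 := by exact_mod_cast unit_ne_zero he
        have ye0 := (mul_eq_zero.mp ye).resolve_left hc
        rw [ye0] at q2b q3b
        simp at q2b q3b
        linarith
      · have hz := sh3' hy3
        have h3e : c 3 e = 0 := hz e neo (fun e0 => by rw [e0, h2b] at he; norm_num at he)
          (fun e0 => unit_ne_zero he (e0 ▸ hy2.2.1)) (fun e0 => unit_ne_zero he (e0 ▸ hy2.2.2))
        have l3y := h.sum_y 3
        have q3 := h.qyy 3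
        rw [expand_four nob nos nou hbs hbu hsu hz, o3, h3b, ys, yu] at l3y q3
        simp only [mul_zero, zero_mul, zero_div, add_zero, dao, kVV, Matrix.cons_val, Int.cast_one, one_mul,
          div_one, Int.cast_mul, Int.cast_neg] at l3y q3
        have ye : (c 2 e : ℝ) * y e = 0 := by linarith
        have hc : (c 2 e : ℝ) ≠ 0 := by exact_mod_cast unit_ne_zero he
        rw [(mul_eq_zero.mp ye).resolve_left hc] at q2
        simp at q2 q3
        linarith
  · have hz2 := sh2' hy2
    exfalso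
    have x23 := expand_four (R := ℤ) noa nos nou has hau hsu hz2 (c 3)
    simp only [Int.cast_id] at x23
    rw [x23, o2, o3, h2a, hy2.2.1, hy2.2.2] at e23
    rcases hy3 with hy3 | hy3
    · rw [hy3.2.1, hy3.2.2] at e23
      rcases hx3 with ⟨h3a, h3b⟩ | ⟨h3a, h3b⟩
      · rw [h3a] at e23
        ring_nf at e23
        rw [show c 0 a ^ 2 = 1 by rw [sq]; exact ha] at e23
        omega
      · obtain ⟨sh3, -⟩ := shape 3 b o3 n3 (by rw [h3b]; linear_combination hb) nob hbp hbs hbu hW3m hW3v
        obtain ⟨e', neo', neb', nep', he', hze'⟩ := sh3 hy3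
        have l2y := h.sum_y 2
        have q2 := h.qyy 2
        rw [expand_four noa nos nou has hau hsu hz2, o2, h2a, ys, yu] at l2y q2
        simp only [mul_zero, zero_mul, zero_div, add_zero, dao, kVV, Matrix.cons_val, Int.cast_one, one_mul,
          div_one] at l2y q2
        have l3y := h.sum_y 3
        have q3 := h.qyy 3
        rw [expand_four nob nop neo'.symm hbp neb'.symm nep'.symm hze', o3, h3b, yp] at l3y q3
        simp only [mul_zero, zero_mul, zero_div, add_zero, dao, kVV, Matrix.cons_val, Int.cast_one, one_mul,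
          div_one, Int.cast_mul, Int.cast_neg] at l3y q3
        have ye : (c 3 e' : ℝ) * y e' = 0 := by linarith
        have hc : (c 3 e' : ℝ) ≠ 0 := by exact_mod_cast unit_ne_zero he'
        rw [(mul_eq_zero.mp ye).resolve_left hc] at q3
        simp at q2 q3
        linarith
    · rw [hy3.2.1, hy3.2.2] at e23
      rcases hx3 with ⟨h3a, h3b⟩ | ⟨h3a, h3b⟩ <;> rw [h3a] at e23 <;>
        rcases Int.eq_one_or_neg_one_of_mul_eq_one ha with ea | ea <;>
          rcases Int.eq_one_or_neg_one_of_mul_eq_one hs with es | es <;>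
            rcases Int.eq_one_or_neg_one_of_mul_eq_one hu with eu | eu <;>
              simp [ea, es, eu] at e23

/-- One of the points has degree two, value two at the second class and not at the first. -/
theorem Sys.exists_two (h₀ : Sys c d o y z) : ∃ χ, d χ = 2 ∧ z χ = 2 * z o ∧ y χ ≠ 2 * y o := by
  obtain ⟨α, β, m, a, b, p, s, u, v, f⟩ := h₀.exists_frame
  have h := h₀.shift α β
  obtain ⟨-, -, hx, -⟩ := f.row h (r := 2) (σ := 1) (by norm_num) (h.triv 2) (h.gram 2 2) (h.gram 0 2) (h.gram 1 2)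
    (h.gram 4 2) (h.gram 5 2) (by simp [kVV])
  have key : d s = 2 ∧ (z s - β * d s) = 2 * (z o - β * d o) ∧ (y s - α * d s) ≠ 2 * (y o - α * d o) := by
    rcases hx with ⟨e1, e2⟩ | ⟨e1, e2⟩
    · exact f.config h e2 (by simpa using e1)
    · exact f.swap.config h e1 (by simpa using e2)
  obtain ⟨hd, hz, hy⟩ := key
  refine ⟨s, hd, ?_, fun e => hy ?_⟩
  · rw [hd, h₀.deg_o] at hz; push_cast at hz; linarith
  · rw [hd, h₀.deg_o, e]; push_cast; ring

end CfsgLib.SmallGroups.AltNineNormalizer
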