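import Cfsg.Agent.Lib.SmallGroups.AltNineNormalizer.Main
import Cfsg.Agent.Lib.SmallGroups.ThreeCube.Finish
import Cfsg.Agent.Lib.Char.Basic
import Cfsg.Agent.Lib.CharNormal.Kernel
import Cfsg.Prelude.Def_Solvable
import Cfsg.Prelude.Def_TwoFusion
import Mathlib

/-!
A subgroup like the normalizer of `3³` in `A₉` with strongly closed core is the whole group.
-/

set_option autoImplicit false
set_option maxHeartbeats 1000000

namespace CfsgLib.SmallGroups.AltNineNormalizer

open Subgroup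
open CfsgLib.SmallGroups.ThreeCube (V W Local108 axisV signAct toPerm toPerm_ker range_toPerm)

/-- A table of nine images. -/
def nineFun (l : List ℕ) (x : Fin 9) : Fin 9 := Fin.ofNat 9 (l.getD x 0)

theorem perm_inverse : ∀ (w : W24) (x : Fin 9), nineFun (permTab.getD w.idx []) (nineFun (permTab.getD (w⁻¹).idx []) x) = x ∧
    nineFun (permTab.getD (w⁻¹).idx []) (nineFun (permTab.getD w.idx []) x) = x := by decide +kernel

/-- `S₄` as permutations of nine points. -/
def monPerm (w : W24) : Equiv.Perm (Fin 9) where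
  toFun := nineFun (permTab.getD w.idx [])
  invFun := nineFun (permTab.getD (w⁻¹).idx [])
  left_inv x := (perm_inverse w x).2
  right_inv x := (perm_inverse w x).1

theorem monPerm_mul : ∀ w w', monPerm (w * w') = monPerm w * monPerm w' := by decide +kernel

theorem monPerm_act : ∀ w t, CfsgLib.SmallGroups.ThreeCube.planePerm (act w t) =
    monPerm w * CfsgLib.SmallGroups.ThreeCube.planePerm t * (monPerm w)⁻¹ := by decide +kernel

/-- The permutation model. -/
def toPerm648 : Local648 →* Equiv.Perm (Fin 9) :=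
  SemidirectProduct.lift CfsgLib.SmallGroups.ThreeCube.planePermHom (MonoidHom.mk' monPerm monPerm_mul)
    fun w => MonoidHom.ext fun t => monPerm_act w t.toAdd

theorem toPerm648_ker : ∀ x : Local648, toPerm648 x = 1 → x = 1 := by decide +kernel

/-- The given generators. -/
def gen9 : Fin 4 → Equiv.Perm (Fin 9) :=
  ![Equiv.swap (0 : Fin 9) 1 * Equiv.swap 1 2,
    Equiv.swap (0 : Fin 9) 3 * Equiv.swap 3 6 * (Equiv.swap (1 : Fin 9) 4 * Equiv.swap 4 7) * (Equiv.swap (2 : Fin 9) 5 * Equiv.swap 5 8),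
    Equiv.swap (0 : Fin 9) 1 * Equiv.swap 3 4,
    Equiv.swap (0 : Fin 9) 3 * Equiv.swap 1 4 * Equiv.swap 2 5 * Equiv.swap 6 7]

theorem gen9_range : ∀ i, ∃ x : Local648, toPerm648 x = gen9 i := by decide +kernel

/-- Words for the elements of `S₄`. -/
theorem monPerm_words : ∀ w : W24, ∃ a : Fin 3, ∃ b : Fin 2, ∃ c : Fin 2, ∃ e : Fin 2,
    monPerm w = gen9 1 ^ (a : ℕ) * gen9 3 ^ (b : ℕ) *
      (gen9 2 ^ (c : ℕ) * (gen9 1 * gen9 2 * (gen9 1)⁻¹) ^ (e : ℕ)) := by decide +kernel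

theorem cyc_words : CfsgLib.SmallGroups.ThreeCube.cyc 1 = gen9 1 * gen9 0 * (gen9 1)⁻¹ ∧
    CfsgLib.SmallGroups.ThreeCube.cyc 2 = gen9 1 * (gen9 1 * gen9 0 * (gen9 1)⁻¹) * (gen9 1)⁻¹ ∧
    CfsgLib.SmallGroups.ThreeCube.cyc 0 = gen9 0 := by decide +kernel

theorem range_toPerm648 : toPerm648.range = Subgroup.closure ({Equiv.swap (0 : Fin 9) 1 * Equiv.swap 1 2,
    Equiv.swap (0 : Fin 9) 3 * Equiv.swap 3 6 * (Equiv.swap (1 : Fin 9) 4 * Equiv.swap 4 7) * (Equiv.swap (2 : Fin 9) 5 * Equiv.swap 5 8),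
    Equiv.swap (0 : Fin 9) 1 * Equiv.swap 3 4,
    Equiv.swap (0 : Fin 9) 3 * Equiv.swap 1 4 * Equiv.swap 2 5 * Equiv.swap 6 7} : Set (Equiv.Perm (Fin 9))) := by
  apply le_antisymm
  · set K := Subgroup.closure ({Equiv.swap (0 : Fin 9) 1 * Equiv.swap 1 2,
      Equiv.swap (0 : Fin 9) 3 * Equiv.swap 3 6 * (Equiv.swap (1 : Fin 9) 4 * Equiv.swap 4 7) * (Equiv.swap (2 : Fin 9) 5 * Equiv.swap 5 8),
      Equiv.swap (0 : Fin 9) 1 * Equiv.swap 3 4,
      Equiv.swap (0 : Fin 9) 3 * Equiv.swap 1 4 * Equiv.swap 2 5 * Equiv.swap 6 7} : Set (Equiv.Perm (Fin 9))) with hK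
    have hg : ∀ i, gen9 i ∈ K := fun i => Subgroup.subset_closure (by fin_cases i <;> simp [gen9])
    rintro _ ⟨x, rfl⟩
    rw [← SemidirectProduct.inl_left_mul_inr_right x, map_mul, toPerm648, SemidirectProduct.lift_inl,
      SemidirectProduct.lift_inr]
    show CfsgLib.SmallGroups.ThreeCube.planePerm _ * monPerm _ ∈ _
    obtain ⟨a, b, c, e, hw⟩ := monPerm_words x.right
    obtain ⟨h1, h2, h0⟩ := cyc_words
    rw [CfsgLib.SmallGroups.ThreeCube.planePerm, hw, h0, h1, h2]
    have hr := hg 1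
    have hc1 := mul_mem (mul_mem hr (hg 0)) (inv_mem hr)
    exact mul_mem (mul_mem (pow_mem (hg 0) _) (mul_mem (pow_mem hc1 _)
      (pow_mem (mul_mem (mul_mem hr hc1) (inv_mem hr)) _)))
      (mul_mem (mul_mem (pow_mem hr _) (pow_mem (hg 3) _))
        (mul_mem (pow_mem (hg 2) _) (pow_mem (mul_mem (mul_mem hr (hg 2)) (inv_mem hr)) _)))
  · rw [Subgroup.closure_le]
    rintro x (rfl | rfl | rfl | rfl)
    exacts [gen9_range 0, gen9_range 1, gen9_range 2, gen9_range 3]

/-- The double sign changes inside `S₄`. -/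
def signW (w : W) : W24 :=
  ⟨((List.finRange 24).find? fun i => decide (∀ t, act ⟨i⟩ t = signAct w t)).getD 0⟩

theorem signW_spec : ∀ w w', signW (w + w') = signW w * signW w' := by decide +kernel

theorem signW_act : ∀ w t, act (signW w) t = signAct w t := by decide +kernel

/-- `3³ ⋊ 2²` inside `3³ ⋊ S₄`. -/
def incl : Local108 →* Local648 :=
  SemidirectProduct.map (MonoidHom.id _) (MonoidHom.mk' (fun w => signW w.toAdd) fun a b => signW_spec _ _)
    fun w => MonoidHom.ext fun t => Multiplicative.toAdd.injective (signW_act _ _).symm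

theorem incl_ker : ∀ x : Local108, incl x = 1 → x = 1 := by decide +kernel

/-- Membership in the normal subgroup of order `108`. -/
def InCore (x : Local648) : Prop := ∃ w : W, x.right = signW w

instance instDecidableInCore (x : Local648) : Decidable (InCore x) :=
  inferInstanceAs (Decidable (∃ w : W, x.right = signW w))

theorem inCore_iff : ∀ x : Local648, InCore x → ∃ a : Local108, incl a = x := by
  rintro ⟨t, w'⟩ ⟨w, rfl : w' = signW w⟩
  exact ⟨⟨t, Multiplicative.ofAdd w⟩, rfl⟩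

theorem incl_inCore (a : Local108) : InCore (incl a) := ⟨a.right.toAdd, rfl⟩

/-- Even elements of `S₄`. -/
def EvenW (w : W24) : Prop := w ^ 3 = 1 ∨ ∃ u : W, w = signW u

instance instDecidableEvenW (w : W24) : Decidable (EvenW w) :=
  inferInstanceAs (Decidable (_ ∨ _))

theorem even_mul : ∀ w w', EvenW w → EvenW w' → EvenW (w * w') := by decide +kernel

theorem odd_reaches : ∀ w, ¬ EvenW w → ∃ c : W24, ∃ u : W, (rep 11).right = signW u * (c * w * c⁻¹) := by
  decide +kernel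

theorem even_reaches : ∀ w, EvenW w → (¬ ∃ u : W, w = signW u) →
    ∃ u : W, (rep 7).right = signW u * w ∨ (rep 7).right = signW u * w⁻¹ := by decide +kernel

/-- The map from even elements to the group of order three. -/
def thirdOf (w : W24) : ZMod 3 :=
  if ∃ u : W, w = signW u then 0 else if ∃ u : W, w = signW u * (rep 7).right then 1 else 2

theorem thirdOf_mul : ∀ w w', EvenW w → EvenW w' → thirdOf (w * w') = thirdOf w + thirdOf w' := by decide +kernel

theorem thirdOf_zero : ∀ w, EvenW w → thirdOf w = 0 → ∃ u : W, w = signW u := by decide +kernel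

theorem rep7_facts : rep 7 ^ 9 = 1 ∧ (∃ t : V, t ≠ 0 ∧ rep 7 ^ 3 = pl t) ∧ EvenW (rep 7).right ∧
    thirdOf (rep 7).right = 1 ∧ ¬ InCore (rep 11) := by decide +kernel

theorem w24_three : ∀ w : W24, w ≠ 1 → w ^ 3 = 1 → ∃ c : W24, (c * w * c⁻¹ * w) ^ 3 ≠ 1 := by decide +kernel

theorem w24_order : ∀ w : W24, w ^ 24 = 1 := by decide +kernel

theorem core_gens : (∀ l : Fin 3, ∃ c : Local648,
      (c * rep 10 * c⁻¹) * pl (axisV l) * (c * rep 10 * c⁻¹)⁻¹ * (pl (axisV l))⁻¹ = pl (axisV l)) ∧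
    (∀ u : W, u ≠ 0 → ∃ c : Local648, c * rep 10 * c⁻¹ = ⟨1, signW u⟩) ∧ signW 0 = 1 := by decide +kernel

theorem pl_split : ∀ t : V, pl t = pl (axisV 0) ^ t.1.val * (pl (axisV 1) ^ t.2.1.val * pl (axisV 2) ^ t.2.2.val) := by
  decide +kernel

theorem elt_split (x : Local648) : x = pl x.left.toAdd * ⟨1, x.right⟩ :=
  (SemidirectProduct.inl_left_mul_inr_right x).symm

theorem plane_right648 : ∀ x : Local648, x.right = 1 → x = pl x.left.toAdd := fun x hx => by
  conv_lhs => rw [elt_split x, hx]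
  exact mul_one _

variable {G : Type*} [Group G] [Finite G] {Φ : Local648 →* G}

/-- A subgroup meeting the range in the image of `3³ ⋊ 2²` is contained in it. -/
theorem Loc.le_range (h : Loc Φ) (M : Subgroup G) (hM : ∀ x, Φ x ∈ M ↔ InCore x) : M ≤ Φ.range := by
  classical
  have hpl : ∀ t, Φ (pl t) ∈ M := fun t => (hM _).mpr ⟨0, core_gens.2.2.symm⟩
  let H' : Subgroup M := Φ.range.subgroupOf M
  let J' : Subgroup M := (Φ.comp SemidirectProduct.inl).range.subgroupOf M
  let ψ : Local108 →* M := (Φ.comp incl).codRestrict M fun a => (hM _).mpr (incl_inCore a)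
  have hψinj : Function.Injective ψ := fun a b e =>
    (injective_iff_map_eq_one incl).mpr incl_ker (h.inj (congrArg Subtype.val e))
  have hψ : ψ.range = H' := by
    ext g
    constructor
    · rintro ⟨a, rfl⟩; exact ⟨incl a, rfl⟩
    · rintro ⟨x, hx⟩
      obtain ⟨a, rfl⟩ := inCore_iff x ((hM x).mp (by rw [hx]; exact g.2))
      exact ⟨a, Subtype.ext hx⟩
  have hJle : J' ≤ H' := fun g ⟨t, ht⟩ => ⟨_, ht⟩
  have hcard : Nat.card J' = 27 := by
    rw [Nat.card_congr (Subgroup.subgroupOfEquivOfLe (G := G) (H := (Φ.comp SemidirectProduct.inl).range)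
      (K := M) (by rintro _ ⟨t, rfl⟩; exact hpl t.toAdd)).toEquiv,
      ← Nat.card_congr (MonoidHom.ofInjective (f := Φ.comp SemidirectProduct.inl) (fun a b e => SemidirectProduct.inl_injective (h.inj e))).toEquiv,
      Nat.card_eq_fintype_card]
    rfl
  have hN : Subgroup.normalizer (J' : Set M) = H' := by
    ext g
    constructor
    · intro hg
      obtain ⟨l, hl⟩ : ∃ l : V, l ≠ 0 := ⟨(1, 0, 0), by decide⟩
      have hmem : (⟨Φ (pl l), hpl l⟩ : M) ∈ J' := ⟨Multiplicative.ofAdd l, rfl⟩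
      obtain ⟨t, ht⟩ := (Subgroup.mem_normalizer_iff.mp hg _).mp hmem
      exact h.fus l hl g ⟨_, ht⟩
    · rintro ⟨x, hx⟩
      refine Subgroup.mem_normalizer_iff.mpr fun y => ?_
      have key : ∀ (z : Local648) (t : Multiplicative V),
          Φ z * Φ (SemidirectProduct.inl t) * (Φ z)⁻¹ ∈ (Φ.comp SemidirectProduct.inl).range := fun z t => by
        refine ⟨(z * SemidirectProduct.inl t * z⁻¹).left, ?_⟩
        rw [MonoidHom.comp_apply, ← map_inv, ← map_mul, ← map_mul]
        congr 1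
        conv_rhs => rw [← SemidirectProduct.inl_left_mul_inr_right (z * SemidirectProduct.inl t * z⁻¹)]
        simp [SemidirectProduct.mul_right, SemidirectProduct.inv_right]
      constructor
      · rintro ⟨t, ht⟩
        show (g : G) * (y : G) * (g : G)⁻¹ ∈ (Φ.comp SemidirectProduct.inl).range
        rw [show (g : G) = Φ x from hx.symm, show (y : G) = Φ (SemidirectProduct.inl t) from ht.symm]
        exact key x t
      · intro hy
        obtain ⟨t, ht⟩ := hy
        have : (y : G) = Φ x⁻¹ * Φ (SemidirectProduct.inl t) * (Φ x⁻¹)⁻¹ := by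
          rw [show Φ (SemidirectProduct.inl t) = (g : G) * (y : G) * (g : G)⁻¹ from ht, map_inv,
            show Φ x = (g : G) from hx]
          group
        show (y : G) ∈ (Φ.comp SemidirectProduct.inl).range
        rw [this]; exact key _ t
  have hC : ∀ j ∈ J', j ≠ 1 → Subgroup.centralizer ({j} : Set M) ≤ H' := by
    rintro j ⟨t, ht⟩ hj g hg
    rw [Subgroup.mem_centralizer_singleton_iff] at hg
    refine h.fus t.toAdd (fun e => hj (Subtype.ext ?_)) g ⟨pl t.toAdd, ?_⟩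
    · rw [← show Φ (SemidirectProduct.inl t) = (j : G) from ht, show t = 1 from Multiplicative.toAdd.injective e]
      simp
    · have hgj : (g : G) * (j : G) = (j : G) * (g : G) := congrArg Subtype.val hg
      rw [show Φ (pl t.toAdd) = (j : G) from ht, hgj, mul_inv_cancel_right]
  have e108 : Nonempty (↥H' ≃* ↥(Subgroup.closure ({Equiv.swap (0 : Fin 9) 1 * Equiv.swap 1 2, Equiv.swap (3 : Fin 9) 4 * Equiv.swap 4 5, Equiv.swap (6 : Fin 9) 7 * Equiv.swap 7 8,
      Equiv.swap (0 : Fin 9) 1 * Equiv.swap 3 4, Equiv.swap (0 : Fin 9) 1 * Equiv.swap 6 7} : Set (Equiv.Perm (Fin 9))))) :=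
    ⟨(((MonoidHom.ofInjective hψinj).trans (MulEquiv.subgroupCongr hψ)).symm.trans
      (MonoidHom.ofInjective ((injective_iff_map_eq_one toPerm).mpr toPerm_ker))).trans
      (MulEquiv.subgroupCongr range_toPerm)⟩
  have htop := CfsgLib.SmallGroups.ThreeCube.eq_top_of_local H' e108 J' hJle hcard hN hC
  intro g hg
  exact (htop ▸ Subgroup.mem_top (⟨g, hg⟩ : M) : (⟨g, hg⟩ : M) ∈ H')

/-- The whole group is the local subgroup. -/
theorem Loc.range_eq_top (h : Loc Φ) : Φ.range = ⊤ := by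
  classical
  haveI := Fintype.ofFinite G
  obtain ⟨χ, hdeg, hz, hv⟩ := h.exists_two
  have hc := CfsgLib.Char.isCharacter_of_isIrr χ.2
  have h1 : (χ : G → ℂ) 1 = 2 := by rw [CfsgLib.InvolChar.deg_spec, hdeg]; norm_num
  set N := CfsgLib.CharNormal.charKer hc with hNdef
  haveI hNn : N.Normal := CfsgLib.CharNormal.charKer_normal hc
  have hzN : Φ (rep 10) ∈ N := CfsgLib.CharNormal.mem_charKer.mpr (by rw [hz, h1])
  have hvN : Φ (rep 11) ∉ N := fun e => hv (by rw [CfsgLib.CharNormal.mem_charKer.mp e, h1])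
  have hconjz : ∀ c : Local648, Φ (c * rep 10 * c⁻¹) ∈ N := fun c => by
    rw [map_mul, map_mul, map_inv]; exact hNn.conj_mem _ hzN _
  have hcomm : ∀ (a b : Local648), Φ a ∈ N → Φ (a * b * a⁻¹ * b⁻¹) ∈ N := fun a b ha => by
    rw [show a * b * a⁻¹ * b⁻¹ = a * (b * a⁻¹ * b⁻¹) by group, map_mul, map_mul, map_mul, map_inv, map_inv]
    exact mul_mem ha (hNn.conj_mem _ (inv_mem ha) _)
  have hax : ∀ l, Φ (pl (axisV l)) ∈ N := fun l => by
    obtain ⟨c, hc'⟩ := core_gens.1 l
    rw [← hc']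
    exact hcomm _ _ (hconjz c)
  have hsig : ∀ u : W, Φ ⟨1, signW u⟩ ∈ N := fun u => by
    by_cases hu : u = 0
    · subst hu
      rw [core_gens.2.2, show (⟨1, 1⟩ : Local648) = 1 from rfl, map_one]
      exact one_mem _
    · obtain ⟨c, hc'⟩ := core_gens.2.1 u hu
      rw [← hc']; exact hconjz c
  have hplN : ∀ t, Φ (pl t) ∈ N := fun t => by
    rw [pl_split]; simp only [map_mul, map_pow]
    exact mul_mem (pow_mem (hax 0) _) (mul_mem (pow_mem (hax 1) _) (pow_mem (hax 2) _))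
  have hsplit : ∀ x : Local648, (Φ x ∈ N ↔ Φ ⟨1, x.right⟩ ∈ N) := fun x => by
    conv_lhs => rw [elt_split x, map_mul]
    exact Subgroup.mul_mem_cancel_left _ (hplN _)
  have hcore : ∀ x, InCore x → Φ x ∈ N := fun x ⟨u, hu⟩ => (hsplit x).mpr (hu ▸ hsig u)
  let ιW : W24 →* Local648 := SemidirectProduct.inr
  have hiW : ∀ w, (⟨1, w⟩ : Local648) = ιW w := fun _ => rfl
  have heven : ∀ x, Φ x ∈ N → EvenW x.right := by
    intro x hx
    by_contra ho
    obtain ⟨c, u, hcu⟩ := odd_reaches x.right ho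
    refine hvN ((hsplit _).mpr ?_)
    rw [hcu, hiW, map_mul ιW, map_mul ιW, map_mul ιW, map_inv ιW]
    simp only [map_mul, map_inv]
    exact mul_mem (hsig u) (hNn.conj_mem _ ((hsplit x).mp hx) _)
  suffices hsub : N ≤ Φ.range by
    refine eq_top_iff.mpr fun g _ => ?_
    exact h.fus (axisV 0) (by decide) g (hsub (hNn.conj_mem _ (hax 0) g))
  by_cases hall : ∀ x, Φ x ∈ N → InCore x
  · exact h.le_range N fun x => ⟨hall x, hcore x⟩
  push Not at hall
  obtain ⟨x₀, hx₀, hx₀c⟩ := hall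
  -- the element of order nine lies in the kernel
  have h7 : Φ (rep 7) ∈ N := by
    refine (hsplit _).mpr ?_
    obtain ⟨u, hu | hu⟩ := even_reaches x₀.right (heven x₀ hx₀) hx₀c <;> rw [hu, hiW, map_mul ιW, map_mul]
    · exact mul_mem (hsig u) ((hsplit x₀).mp hx₀)
    · rw [map_inv ιW, map_inv]; exact mul_mem (hsig u) (inv_mem ((hsplit x₀).mp hx₀))
  -- transfer to the group of order three
  let e : Local648 ≃* Φ.range := MonoidHom.ofInjective h.inj
  let L : Subgroup N := Φ.range.subgroupOf N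
  let pre : L → Local648 := fun y => e.symm ⟨((y : N) : G), y.2⟩
  have hpre : ∀ y : L, Φ (pre y) = ((y : N) : G) := fun y => congrArg Subtype.val (e.apply_symm_apply _)
  have hpreE : ∀ y : L, EvenW (pre y).right := fun y => heven _ (by rw [hpre]; exact (y : N).2)
  have hpre_mul : ∀ y y' : L, pre (y * y') = pre y * pre y' := fun y y' => h.inj (by
    rw [hpre, map_mul, hpre, hpre]; rfl)
  let φ : L →* Multiplicative (ZMod 3) := MonoidHom.mk' (fun y => Multiplicative.ofAdd (thirdOf (pre y).right))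
    fun y y' => by
      rw [hpre_mul, SemidirectProduct.mul_right, thirdOf_mul _ _ (hpreE y) (hpreE y'), ofAdd_add]
  set T := MonoidHom.transfer φ with hT
  have hcube : ∀ a : Multiplicative (ZMod 3), a * a = 1 → a = 1 := by decide
  have hTz : ∀ c : Local648, T ⟨Φ (c * rep 10 * c⁻¹), hconjz c⟩ = 1 := fun c => hcube _ (by
    rw [← map_mul]
    convert map_one T
    refine Subtype.ext ?_
    show Φ (c * rep 10 * c⁻¹) * Φ (c * rep 10 * c⁻¹) = 1
    rw [← map_mul, conj_mul, show rep 10 * rep 10 = 1 from (kind_sq 1).1]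
    simp)
  have hTax : ∀ l, T ⟨Φ (pl (axisV l)), hax l⟩ = 1 := fun l => by
    obtain ⟨c, hc'⟩ := core_gens.1 l
    have : (⟨Φ (pl (axisV l)), hax l⟩ : N) = ⟨Φ (c * rep 10 * c⁻¹), hconjz c⟩ * ⟨Φ (pl (axisV l)), hax l⟩ *
        (⟨Φ (c * rep 10 * c⁻¹), hconjz c⟩)⁻¹ * (⟨Φ (pl (axisV l)), hax l⟩)⁻¹ := by
      refine Subtype.ext ?_
      show Φ (pl (axisV l)) = Φ _ * Φ _ * (Φ _)⁻¹ * (Φ _)⁻¹
      rw [← map_inv, ← map_inv, ← map_mul, ← map_mul, ← map_mul, hc']
    rw [this, map_mul, map_mul, map_mul, map_inv, map_inv, hTz c]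
    simp
  have hTcore : ∀ x, ∀ hx : InCore x, T ⟨Φ x, hcore x hx⟩ = 1 := by
    intro x hx
    obtain ⟨u, hu⟩ := hx
    have hTs : T ⟨Φ ⟨1, signW u⟩, hsig u⟩ = 1 := by
      by_cases hu0 : u = 0
      · subst hu0
        rw [show (⟨Φ ⟨1, signW 0⟩, hsig 0⟩ : N) = 1 from Subtype.ext (by
          show Φ ⟨1, signW 0⟩ = (1 : G)
          rw [core_gens.2.2]; exact map_one Φ), map_one]
      · obtain ⟨c, hc'⟩ := core_gens.2.1 u hu0
        have := hTz c
        simp only [hc'] at this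
        exact this
    have : (⟨Φ x, hcore x ⟨u, hu⟩⟩ : N) = ⟨Φ (pl (axisV 0)), hax 0⟩ ^ x.left.toAdd.1.val *
        (⟨Φ (pl (axisV 1)), hax 1⟩ ^ x.left.toAdd.2.1.val * ⟨Φ (pl (axisV 2)), hax 2⟩ ^ x.left.toAdd.2.2.val) *
        ⟨Φ ⟨1, signW u⟩, hsig u⟩ := by
      refine Subtype.ext ?_
      simp only [Subgroup.coe_mul, SubgroupClass.coe_pow, ← map_pow, ← map_mul]
      rw [← pl_split, ← hu, ← elt_split]
    rw [this, map_mul, map_mul, map_mul, map_pow, map_pow, map_pow, hTax, hTax, hTax, hTs]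
    simp
  obtain ⟨h9, ⟨t₃, ht₃, h3⟩, h7e, h7t, -⟩ := rep7_facts
  set x7 : N := ⟨Φ (rep 7), h7⟩ with hx7
  have hT7 : T x7 ≠ 1 := by
    haveI : Fintype (Quotient (MulAction.orbitRel (Subgroup.zpowers x7) (N ⧸ L))) := Fintype.ofFinite _
    rw [hT, MonoidHom.transfer_eq_prod_quotient_orbitRel_zpowers_quot φ x7]
    have hx7L : x7 ∈ L := ⟨rep 7, rfl⟩
    have hfix : ∀ k : ℕ, x7 ^ k • ((1 : N) : N ⧸ L) = ((1 : N) : N ⧸ L) := fun k => by
      rw [MulAction.Quotient.smul_mk]
      exact QuotientGroup.eq.mpr (by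
        rw [smul_eq_mul, mul_one, mul_one]; exact inv_mem (pow_mem hx7L k))
    set q₀ : Quotient (MulAction.orbitRel (Subgroup.zpowers x7) (N ⧸ L)) := Quotient.mk'' ((1 : N) : N ⧸ L)
    have hout : q₀.out = ((1 : N) : N ⧸ L) := by
      obtain ⟨⟨y, hy⟩, hyq⟩ : q₀.out ∈ MulAction.orbit (Subgroup.zpowers x7) ((1 : N) : N ⧸ L) :=
        MulAction.orbitRel_apply.mp (Quotient.exact' (Quotient.out_eq' q₀))
      obtain ⟨k, rfl⟩ := (mem_powers_iff_mem_zpowers (x := x7)).mpr hy
      rw [← hyq]; exact hfix k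
    have hmin : ∀ q : N ⧸ L, Function.minimalPeriod (x7 • ·) q ∣ 9 := fun q => by
      refine Function.IsPeriodicPt.minimalPeriod_dvd ?_
      show (x7 • ·)^[9] q = q
      rw [smul_iterate]
      show x7 ^ 9 • q = q
      rw [show x7 ^ 9 = 1 from Subtype.ext (by rw [hx7, SubgroupClass.coe_pow, ← map_pow, h9, map_one]; rfl), one_smul]
    have hne : ∀ q : Quotient (MulAction.orbitRel (Subgroup.zpowers x7) (N ⧸ L)), q ≠ q₀ →
        Function.minimalPeriod (x7 • ·) q.out = 9 := by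
      intro q hq
      obtain ⟨j, hj, hjk⟩ := (Nat.dvd_prime_pow Nat.prime_three).mp (show _ ∣ 3 ^ 2 from hmin q.out)
      rcases (show j = 0 ∨ j = 1 ∨ j = 2 by omega) with rfl | rfl | rfl
      rotate_left 2
      · exact hjk
      all_goals
        exfalso
        have hm := QuotientGroup.out_conj_pow_minimalPeriod_mem L x7 q.out
        rw [hjk] at hm
        obtain ⟨y, hy⟩ := hm
        have hg : ((q.out.out : N) : G)⁻¹ * Φ (pl t₃) * ((q.out.out : N) : G)⁻¹⁻¹ ∈ Φ.range := by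
          rw [inv_inv, ← h3, map_pow]
          simp only [hx7, Subgroup.coe_subtype, Subgroup.coe_mul, Subgroup.coe_inv, SubgroupClass.coe_pow] at hy
          first
            | exact ⟨y ^ 3, by rw [map_pow, hy, pow_zero, mul_one, inv_mul_cancel, one_pow]⟩
            | exact ⟨y ^ 3, by rw [map_pow, hy, pow_zero, pow_one]; simp [pow_succ, mul_assoc]⟩
            | exact ⟨y, hy⟩
        obtain ⟨z, hz'⟩ := h.fus t₃ ht₃ _ hg
        have hout1 : q.out.out ∈ L := ⟨z⁻¹, by rw [map_inv, hz', inv_inv]; rfl⟩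
        apply hq
        rw [← Quotient.out_eq' q]
        congr 1
        rw [← QuotientGroup.out_eq' q.out]
        exact QuotientGroup.eq.mpr (by simpa using hout1)
    rw [Finset.prod_eq_single q₀ ?_ (by simp)]
    · have hk : Function.minimalPeriod (x7 • ·) q₀.out = 1 := by
        refine Function.minimalPeriod_eq_one_iff_isFixedPt.mpr ?_
        show x7 • q₀.out = q₀.out
        have := hfix 1
        rwa [pow_one, ← hout] at this
      have ho : q₀.out.out ∈ L := by
        have := QuotientGroup.out_eq' q₀.out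
        rw [hout] at this ⊢
        simpa using QuotientGroup.eq.mp this
      have key : ∀ (y : L), ((y : N) = q₀.out.out⁻¹ * x7 ^ 1 * q₀.out.out) → φ y ≠ 1 := by
        intro y hy
        have : y = (⟨q₀.out.out, ho⟩ : L)⁻¹ * ⟨x7, hx7L⟩ * ⟨q₀.out.out, ho⟩ := Subtype.ext (by rw [hy, pow_one]; rfl)
        rw [this, map_mul, map_mul, map_inv, inv_mul_cancel_comm]
        have e7 : pre ⟨x7, hx7L⟩ = rep 7 := h.inj (hpre _)
        show Multiplicative.ofAdd (thirdOf (pre ⟨x7, hx7L⟩).right) ≠ 1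
        rw [e7, h7t]
        decide
      exact key _ (by simp [hk])
    · intro q _ hq
      refine (fun (y : L) (hy : (y : N) = 1) => by rw [show y = 1 from Subtype.ext hy, map_one] :
        ∀ y : L, (y : N) = 1 → φ y = 1) _ ?_
      show q.out.out⁻¹ * x7 ^ _ * q.out.out = 1
      rw [hne q hq, show x7 ^ 9 = 1 from Subtype.ext (by rw [hx7, SubgroupClass.coe_pow, ← map_pow, h9, map_one]; rfl)]
      simp
  let M : Subgroup G := T.ker.map N.subtype
  have hM : ∀ x, Φ x ∈ M ↔ InCore x := by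
    intro x
    constructor
    · rintro ⟨y, hy, hyx⟩
      have hxN : Φ x ∈ N := hyx ▸ y.2
      have hev := heven x hxN
      by_contra hc'
      obtain ⟨u, hu | hu⟩ := even_reaches x.right hev hc'
      all_goals
        apply hT7
        have hy' : T ⟨Φ x, hxN⟩ = 1 := by
          rw [← show y = ⟨Φ x, hxN⟩ from Subtype.ext hyx]; exact MonoidHom.mem_ker.mp hy
      · have hd : InCore (rep 7 * x⁻¹) := ⟨u, by
          rw [SemidirectProduct.mul_right, SemidirectProduct.inv_right, hu, mul_inv_cancel_right]⟩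
        rw [show x7 = ⟨Φ (rep 7 * x⁻¹), hcore _ hd⟩ * ⟨Φ x, hxN⟩ from Subtype.ext (by simp [hx7]),
          map_mul, hTcore _ hd, hy', mul_one]
      · have hd : InCore (rep 7 * x) := ⟨u, by rw [SemidirectProduct.mul_right, hu, inv_mul_cancel_right]⟩
        rw [show x7 = ⟨Φ (rep 7 * x), hcore _ hd⟩ * (⟨Φ x, hxN⟩ : N)⁻¹ from Subtype.ext (by simp [hx7]),
          map_mul, map_inv, hTcore _ hd, hy', inv_one, mul_one]
    · exact fun hx => ⟨⟨Φ x, hcore x hx⟩, hTcore x hx, rfl⟩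
  have hMle := h.le_range M hM
  intro g hg
  refine h.fus (axisV 0) (by decide) g (hMle ⟨⟨g, hg⟩ * ⟨Φ (pl (axisV 0)), hax 0⟩ * ⟨g, hg⟩⁻¹, ?_, rfl⟩)
  show T _ = 1
  rw [map_mul, map_mul, map_inv, hTax, mul_one, mul_inv_cancel]

theorem eq_top_of_closed {G : Type*} [Group G] [Finite G] (H : Subgroup G)
    (hH : Nonempty (↥H ≃* ↥(Subgroup.closure ({Equiv.swap (0 : Fin 9) 1 * Equiv.swap 1 2,
        Equiv.swap (0 : Fin 9) 3 * Equiv.swap 3 6 * (Equiv.swap (1 : Fin 9) 4 * Equiv.swap 4 7) * (Equiv.swap (2 : Fin 9) 5 * Equiv.swap 5 8),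
        Equiv.swap (0 : Fin 9) 1 * Equiv.swap 3 4, Equiv.swap (0 : Fin 9) 3 * Equiv.swap 1 4 * Equiv.swap 2 5 * Equiv.swap 6 7} : Set (Equiv.Perm (Fin 9))))))
    (J : Subgroup G) (hJ : J = (Cfsg.pCore 3 ↥H).map H.subtype)
    (hC : ∀ j ∈ J, j ≠ 1 → Subgroup.centralizer ({j} : Set G) ≤ H) (hsc : Cfsg.IsStronglyClosed J H) : H = ⊤ := by
  classical
  haveI : Fact (Nat.Prime 3) := ⟨Nat.prime_three⟩
  obtain ⟨eH⟩ := hH
  let e : Local648 ≃* H := ((MonoidHom.ofInjective ((injective_iff_map_eq_one toPerm648).mpr toPerm648_ker)).trans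
    (MulEquiv.subgroupCongr range_toPerm648)).trans eH.symm
  let Φ : Local648 →* G := H.subtype.comp e.toMonoidHom
  have hinj : Function.Injective Φ := Subtype.val_injective.comp e.injective
  have hrange : Φ.range = H := by
    ext g
    exact ⟨by rintro ⟨x, rfl⟩; exact (e x).2, fun hg => ⟨e.symm ⟨g, hg⟩, by simp [Φ]⟩⟩
  -- the core is the plane
  let Pl : Subgroup H := (SemidirectProduct.inl : Multiplicative V →* Local648).range.map e.toMonoidHom
  have hcoreEq : Cfsg.pCore 3 ↥H = Pl := by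
    refine le_antisymm (sSup_le ?_) (le_sSup ⟨?_, ?_⟩)
    · rintro N ⟨hNn, hNp⟩ y hy
      refine ⟨e.symm y, ?_, e.apply_symm_apply y⟩
      suffices hr : (e.symm y).right = 1 from
        ⟨(e.symm y).left, (plane_right648 _ hr).symm⟩
      have hthree : ∀ z ∈ N, (e.symm z).right ^ 3 = 1 := fun z hz => by
        obtain ⟨k, hk⟩ := hNp ⟨z, hz⟩
        have h0 : e.symm z ^ 3 ^ k = 1 := by rw [← map_pow, show z ^ 3 ^ k = 1 from congrArg Subtype.val hk, map_one]
        have h1 : (e.symm z).right ^ 3 ^ k = 1 := by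
          have := congrArg (SemidirectProduct.rightHom : Local648 →* W24) h0
          rwa [map_pow, map_one] at this
        have h2 := pow_gcd_eq_one.mpr ⟨h1, w24_order (e.symm z).right⟩
        have hg : Nat.gcd (3 ^ k) 24 ∣ 3 := by
          rcases k with _ | k
          · simp
          · have : Nat.gcd (3 ^ (k + 1)) 24 = 3 := by
              rw [pow_succ', show 24 = 3 * 8 from rfl, Nat.gcd_mul_left,
                Nat.Coprime.gcd_eq_one ((by decide : Nat.Coprime 3 8).pow_left k)]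
            rw [this]
        obtain ⟨d, hd⟩ := hg
        exact (congrArg (fun n => (e.symm z).right ^ n) hd).trans (by simp only [pow_mul, h2, one_pow])
      by_contra hne
      obtain ⟨c, hcc⟩ := w24_three _ hne (hthree y hy)
      refine hcc ?_
      have := hthree (e ⟨1, c⟩ * y * (e ⟨1, c⟩)⁻¹ * y) (mul_mem (hNn.conj_mem y hy _) hy)
      simpa using this
    · refine ⟨?_⟩
      rintro _ ⟨_, ⟨t, rfl⟩, rfl⟩ g
      obtain ⟨z, rfl⟩ := e.surjective g
      refine ⟨z * SemidirectProduct.inl t * z⁻¹, ⟨(z * SemidirectProduct.inl t * z⁻¹).left, ?_⟩, by simp⟩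
      exact (plane_right648 (z * SemidirectProduct.inl t * z⁻¹) (by rw [SemidirectProduct.mul_right, SemidirectProduct.mul_right,
        SemidirectProduct.inv_right, SemidirectProduct.right_inl, mul_one, mul_inv_cancel])).symm
    · refine IsPGroup.map ?_ _
      rintro ⟨_, t, rfl⟩
      exact ⟨1, Subtype.ext ((pl_facts t.toAdd).1)⟩
  have hJmem : ∀ g, g ∈ J ↔ ∃ t, Φ (pl t) = g := fun g => by
    rw [hJ, hcoreEq]
    constructor
    · rintro ⟨_, ⟨_, ⟨t, rfl⟩, rfl⟩, rfl⟩; exact ⟨t.toAdd, rfl⟩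
    · rintro ⟨t, rfl⟩; exact ⟨e (pl t), ⟨pl t, ⟨Multiplicative.ofAdd t, rfl⟩, rfl⟩, rfl⟩
  have hne : ∀ t : V, t ≠ 0 → Φ (pl t) ≠ 1 := fun t ht e1 => (pl_facts t).2 ht (hinj (e1.trans (map_one Φ).symm))
  have hcard : ∀ t : V, t ≠ 0 → Nat.card (Subgroup.centralizer ({Φ (pl t)} : Set G)) = centOrd (cls (pl t)) := by
    intro t ht
    have hle := hC _ ((hJmem _).mpr ⟨t, rfl⟩) (hne t ht)
    rw [← centOrd_spec, ← Fintype.card_subtype, ← Nat.card_eq_fintype_card]
    have hc := conjugator_spec (pl t)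
    set c₀ := conjugator (pl t)
    set r₀ := rep (cls (pl t))
    refine (Nat.card_eq_of_bijective
      (fun c : {c : Local648 // c * r₀ = r₀ * c} =>
        (⟨Φ (c₀ * c.1 * c₀⁻¹), Subgroup.mem_centralizer_singleton_iff.mpr (by
          rw [← map_mul, ← map_mul, ← hc]
          congr 1
          calc c₀ * c.1 * c₀⁻¹ * (c₀ * r₀ * c₀⁻¹) = c₀ * (c.1 * r₀) * c₀⁻¹ := by group
            _ = c₀ * r₀ * c₀⁻¹ * (c₀ * c.1 * c₀⁻¹) := by rw [c.2]; group)⟩ :
          Subgroup.centralizer ({Φ (pl t)} : Set G))) ⟨?_, ?_⟩).symm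
    · intro a b e'
      have e0 : Φ (c₀ * a.1 * c₀⁻¹) = Φ (c₀ * b.1 * c₀⁻¹) :=
        congrArg (fun w : Subgroup.centralizer ({Φ (pl t)} : Set G) => (w : G)) e'
      have e1 : c₀ * a.1 * c₀⁻¹ = c₀ * b.1 * c₀⁻¹ := hinj e0
      exact Subtype.ext (mul_left_cancel (mul_right_cancel e1))
    · rintro ⟨g, hg⟩
      obtain ⟨d, rfl⟩ := hrange.ge (hle hg)
      rw [Subgroup.mem_centralizer_singleton_iff, ← map_mul, ← map_mul] at hg
      have hd := hinj hg
      refine ⟨⟨c₀⁻¹ * d * c₀, ?_⟩, Subtype.ext (congrArg Φ (by group))⟩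
      rw [← hc] at hd
      calc c₀⁻¹ * d * c₀ * r₀ = c₀⁻¹ * (d * (c₀ * r₀ * c₀⁻¹)) * c₀ := by group
        _ = r₀ * (c₀⁻¹ * d * c₀) := by rw [hd]; group
  have hloc : Loc Φ := ⟨hinj, fun t ht g hg => by
    obtain ⟨u, hu⟩ := (hJmem _).mp (hsc.2 _ ((hJmem _).mpr ⟨t, rfl⟩) g (hrange ▸ hg))
    have hu0 : u ≠ 0 := fun e0 => by
      subst e0
      rw [show Φ (pl 0) = 1 from map_one Φ, eq_comm, conj_eq_one_iff] at hu
      exact hne t ht hu
    have hiso : Nat.card (Subgroup.centralizer ({Φ (pl t)} : Set G)) =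
        Nat.card (Subgroup.centralizer ({Φ (pl u)} : Set G)) := by
      have hmem : ∀ x : G, x ∈ Subgroup.centralizer ({Φ (pl t)} : Set G) ↔
          g * x * g⁻¹ ∈ Subgroup.centralizer ({Φ (pl u)} : Set G) := fun x => by
        rw [Subgroup.mem_centralizer_singleton_iff, Subgroup.mem_centralizer_singleton_iff, hu, conj_mul, conj_mul]
        exact ⟨fun e' => by rw [e'], fun e' => mul_left_cancel (mul_right_cancel e')⟩
      exact Nat.card_congr (Equiv.subtypeEquiv (MulAut.conj g).toEquiv hmem)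
    rw [hcard t ht, hcard u hu0] at hiso
    have hcls : cls (pl t) = cls (pl u) := by
      rcases pl_cls t ht with a | a | a <;> rcases pl_cls u hu0 with b | b | b <;> rw [a, b] at hiso ⊢ <;>
        exact absurd hiso (by decide)
    have hd : ∃ d, d * pl t * d⁻¹ = pl u := by
      refine ⟨conjugator (pl u) * (conjugator (pl t))⁻¹, ?_⟩
      have e1 := conjugator_spec (pl t)
      have e2 := conjugator_spec (pl u)
      rw [hcls] at e1
      generalize conjugator (pl t) = a at e1 ⊢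
      generalize conjugator (pl u) = b at e2 ⊢
      rw [← e1]; refine Eq.trans ?_ e2; group
    obtain ⟨d, hd⟩ := hd
    rw [hrange]
    have hmem : (Φ d)⁻¹ * g ∈ H := hC _ ((hJmem _).mpr ⟨t, rfl⟩) (hne t ht) (by
      rw [Subgroup.mem_centralizer_singleton_iff]
      have h2 : g * Φ (pl t) * g⁻¹ = Φ d * Φ (pl t) * (Φ d)⁻¹ := by
        rw [← hu, ← map_inv, ← map_mul, ← map_mul, hd]
      calc (Φ d)⁻¹ * g * Φ (pl t) = (Φ d)⁻¹ * (g * Φ (pl t) * g⁻¹) * g := by group
        _ = Φ (pl t) * ((Φ d)⁻¹ * g) := by rw [h2]; group)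
    have hdH : Φ d ∈ H := hrange ▸ ⟨d, rfl⟩
    have := mul_mem hdH hmem
    rwa [mul_inv_cancel_left] at this⟩
  rw [← hrange, hloc.range_eq_top]

end CfsgLib.SmallGroups.AltNineNormalizer
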