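import Cfsg.Agent.Lib.SmallGroups.AltNineNormalizer.Sys
import Cfsg.Agent.Lib.SmallGroups.AltNineNormalizer.Algebra
import Mathlib

/-!
The six rows have the shape they have in `3³ ⋊ S₄`; one of the points has degree two.
-/

set_option autoImplicit false
set_option maxHeartbeats 1000000

namespace CfsgLib.SmallGroups.AltNineNormalizer

open CfsgLib.SmallGroups.ThreeCube (two_support three_support four_support sq_le_of_sum unit_of_small)

variable {ι : Type*} [Fintype ι] {c : Fin 6 → ι → ℤ} {d : ι → ℤ} {o : ι} {y z : ι → ℝ}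

/-- The named points of the first, second, fifth and sixth rows. -/
structure Frame (c : Fin 6 → ι → ℤ) (o : ι) (y z : ι → ℝ) (m a b p s u v : ι) : Prop where
  ne0 : m ≠ a ∧ m ≠ b ∧ a ≠ b
  row0 : c 0 m * c 0 m = 1 ∧ c 0 a * c 0 a = 1 ∧ c 0 b * c 0 b = 1 ∧ ∀ χ, χ ≠ m → χ ≠ a → χ ≠ b → c 0 χ = 0
  row01 : c 1 m = -c 0 m ∧ c 1 a = 0 ∧ c 1 b = 0
  ne1 : m ≠ p ∧ m ≠ s ∧ p ≠ s
  row1 : c 1 p * c 1 p = 1 ∧ c 1 s * c 1 s = 1 ∧ ∀ χ, χ ≠ m → χ ≠ p → χ ≠ s → c 1 χ = 0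
  row4 : p ≠ u ∧ c 4 p = c 1 p ∧ c 4 u * c 4 u = 1 ∧ (∀ χ, χ ≠ p → χ ≠ u → c 4 χ = 0) ∧ c 0 u = 0 ∧ c 1 u = 0
  row5 : m ≠ v ∧ c 5 m * c 5 m = 1 ∧ c 5 v * c 5 v = 1 ∧ (∀ χ, χ ≠ m → χ ≠ v → c 5 χ = 0) ∧
    c 0 v = 0 ∧ c 1 v = 0 ∧ c 4 v = 0
  ne2 : o ≠ m ∧ o ≠ a ∧ o ≠ b ∧ o ≠ p ∧ o ≠ s ∧ o ≠ u ∧ o ≠ v
  zeros : y m = 0 ∧ z m = 0 ∧ z a = 0 ∧ z b = 0 ∧ y p = 0 ∧ y s = 0 ∧ y u = 0 ∧ y v = 0 ∧ z v = 0 ∧ z u = z p
  apart : y a ≠ 0 ∧ y b ≠ 0

theorem Frame.swap {m a b p s u v : ι} (f : Frame c o y z m a b p s u v) : Frame c o y z m b a p s u v where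
  ne0 := ⟨f.ne0.2.1, f.ne0.1, f.ne0.2.2.symm⟩
  row0 := ⟨f.row0.1, f.row0.2.2.1, f.row0.2.1, fun χ h1 h2 h3 => f.row0.2.2.2 χ h1 h3 h2⟩
  row01 := ⟨f.row01.1, f.row01.2.2, f.row01.2.1⟩
  ne1 := f.ne1
  row1 := f.row1
  row4 := f.row4
  row5 := f.row5
  ne2 := ⟨f.ne2.1, f.ne2.2.2.1, f.ne2.2.1, f.ne2.2.2.2⟩
  zeros := ⟨f.zeros.1, f.zeros.2.1, f.zeros.2.2.2.1, f.zeros.2.2.1, f.zeros.2.2.2.2⟩
  apart := ⟨f.apart.2, f.apart.1⟩

/-- Existence of the frame, after a shift of the values. -/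
theorem Sys.exists_frame (h₀ : Sys c d o y z) : ∃ (α β : ℝ) (m a b p s u v : ι),
    Frame c o (fun χ => y χ - α * d χ) (fun χ => z χ - β * d χ) m a b p s u v := by
  classical
  obtain ⟨m, a, b, hma, hmb, hab, hm, ha, hb, hz0, hYm, hYa, hYb⟩ := h₀.shared
  refine ⟨y m / d m, z m / d m, m, a, b, ?_⟩
  have hdm : (d m : ℝ) ≠ 0 := by exact_mod_cast (h₀.pos m).ne'
  set y' : ι → ℝ := fun χ => y χ - y m / d m * d χ
  set z' : ι → ℝ := fun χ => z χ - z m / d m * d χ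
  have h : Sys c d o y' z' := h₀.shift _ _
  have ym : y' m = 0 := by simp [y', div_mul_cancel₀ _ hdm]
  have zm : z' m = 0 := by simp [z', div_mul_cancel₀ _ hdm]
  obtain ⟨p, s, hps, hpm, hsm, hp, hs, hz1⟩ := three_support (f := c 1) (h.gram 1 1) (ξ := m)
    (by rw [hYm]; exact neg_ne_zero.mpr (unit_ne_zero hm))
  -- the three-term rows on their zero classes
  have flat : ∀ (r : Fin 6) (q₁ q₂ : ι) (F : ι → ℝ), m ≠ q₁ → m ≠ q₂ → q₁ ≠ q₂ → c r m * c r m = 1 →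
      c r q₁ * c r q₁ = 1 → c r q₂ * c r q₂ = 1 → (∀ χ, χ ≠ m → χ ≠ q₁ → χ ≠ q₂ → c r χ = 0) → F m = 0 →
      ∑ χ, (c r χ : ℝ) * F χ = 0 → ∑ χ, (c r χ : ℝ) * (F χ * F χ / d χ) = 0 → F q₁ = 0 ∧ F q₂ = 0 := by
    intro r q₁ q₂ F n1 n2 n3 um u1 u2 hz Fm e1 e2
    rw [expand_three n1 n2 n3 hz, Fm, mul_zero, zero_add] at e1
    rw [expand_three n1 n2 n3 hz, Fm] at e2
    have ed := h.sum_d r
    have xd := expand_three (R := ℤ) n1 n2 n3 hz d
    simp only [Int.cast_id] at xd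
    rw [xd] at ed
    have h1 : (d q₁ : ℝ) ≠ 0 := by exact_mod_cast (h.pos q₁).ne'
    have h2 : (d q₂ : ℝ) ≠ 0 := by exact_mod_cast (h.pos q₂).ne'
    have c1 : (c r q₁ : ℝ) ≠ 0 := by exact_mod_cast unit_ne_zero u1
    have c2 : (c r q₂ : ℝ) ≠ 0 := by exact_mod_cast unit_ne_zero u2
    have hne : (c r q₁ : ℝ) * d q₁ + c r q₂ * d q₂ ≠ 0 := by
      intro e
      have e' : c r q₁ * d q₁ + c r q₂ * d q₂ = 0 := by exact_mod_cast e
      exact mul_ne_zero (unit_ne_zero um) (h.pos m).ne' (by linarith)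
    rw [zero_mul, zero_div, mul_zero, zero_add, term_signed u1, term_signed u2,
      show (c r q₂ : ℝ) * F q₂ = -((c r q₁ : ℝ) * F q₁) by linarith] at e2
    field_simp at e2
    have e3 : ((c r q₁ : ℝ) * F q₁) ^ 2 * ((c r q₁ : ℝ) * d q₁ + c r q₂ * d q₂) = 0 := by
      linear_combination (c r q₁ : ℝ) * e2
    have := pow_eq_zero_iff (two_ne_zero) |>.mp ((mul_eq_zero.mp e3).resolve_right hne)
    rw [this, zero_add] at e1
    exact ⟨(mul_eq_zero.mp this).resolve_left c1, (mul_eq_zero.mp e1).resolve_left c2⟩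
  obtain ⟨za, zb⟩ := flat 0 a b z' hma hmb hab hm ha hb hz0 zm (h.sum_z 0) (by rw [h.qzz]; rfl)
  obtain ⟨yp, ys⟩ := flat 1 p s y' hpm.symm hsm.symm hps (by rw [hYm, neg_mul_neg]; exact hm) hp hs hz1 ym
    (h.sum_y 1) (by rw [h.qyy]; rfl)
  have kill : y' a ≠ 0 ∧ y' b ≠ 0 := by
    have e := h.sum_y 0
    rw [expand_three hma hmb hab hz0, ym, mul_zero, zero_add] at e
    have q := h.qyy 0
    rw [expand_three hma hmb hab hz0, ym] at q
    have ca : (c 0 a : ℝ) ≠ 0 := by exact_mod_cast unit_ne_zero ha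
    have cb : (c 0 b : ℝ) ≠ 0 := by exact_mod_cast unit_ne_zero hb
    constructor <;> intro h0 <;> rw [h0] at e q <;> simp [ca, cb] at e <;> rw [e] at q <;>
      norm_num [kVV] at q
  have kill' : ∀ χ, y' χ = 0 → χ ≠ a ∧ χ ≠ b := fun χ hχ => ⟨fun e => kill.1 (e ▸ hχ), fun e => kill.2 (e ▸ hχ)⟩
  have hX0 : ∀ χ, χ ≠ m → χ ≠ a → χ ≠ b → c 0 χ = 0 := hz0
  -- the pair meeting the second row
  obtain ⟨q₁, q₂, hq, hq1, hq2, hz4⟩ := two_support (h.gram 4 4)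
  have h4m : c 4 m = 0 := by
    by_contra h0
    obtain ⟨w, hw, hwm, hz⟩ : ∃ w, c 4 w * c 4 w = 1 ∧ m ≠ w ∧ ∀ χ, χ ≠ m → χ ≠ w → c 4 χ = 0 := by
      rcases (show m = q₁ ∨ m = q₂ from by
        by_contra hn; push Not at hn; exact h0 (hz4 m hn.1 hn.2)) with e | e <;> subst e
      · exact ⟨q₂, hq2, hq, hz4⟩
      · exact ⟨q₁, hq1, hq.symm, fun χ a b => hz4 χ b a⟩
    have hm4 : c 4 m * c 4 m = 1 := by
      have := sq_le_of_sum (f := c 4) (h.gram 4 4) m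
      rcases unit_of_small (a := c 4 m) (by rw [show gram6 4 4 = 2 from rfl] at this; omega) with e | e | e
      · exact absurd e h0
      all_goals rw [e]; norm_num
    obtain ⟨-, hy, -⟩ := h.pair_row hwm hm4 hw hz
    have hX : c 0 w = 0 := hX0 w hwm.symm (kill' w (hy ▸ ym)).1 (kill' w (hy ▸ ym)).2
    have e := h.gram 4 0
    have x := expand_two (R := ℤ) hwm hz (c 0)
    simp only [Int.cast_id] at x
    rw [x, hX, mul_zero, add_zero, show gram6 4 0 = 0 from rfl] at e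
    exact mul_ne_zero h0 (unit_ne_zero hm) e
  obtain ⟨p, s, hpm, hsm, hps, hp, hs, hz1, yp, ys, h4p, h4s⟩ : ∃ p s, p ≠ m ∧ s ≠ m ∧ p ≠ s ∧
      c 1 p * c 1 p = 1 ∧ c 1 s * c 1 s = 1 ∧ (∀ χ, χ ≠ m → χ ≠ p → χ ≠ s → c 1 χ = 0) ∧ y' p = 0 ∧ y' s = 0 ∧
      c 4 p = c 1 p ∧ c 4 s = 0 := by
    have e := h.gram 1 4
    have x := expand_three (R := ℤ) hpm.symm hsm.symm hps hz1 (c 4)
    simp only [Int.cast_id] at x
    rw [x, h4m, mul_zero, zero_add, show gram6 1 4 = 1 from rfl] at e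
    have b1 := unit_of_small (a := c 4 p)
      (by have := sq_le_of_sum (f := c 4) (h.gram 4 4) p; rw [show gram6 4 4 = 2 from rfl] at this; omega)
    have b2 := unit_of_small (a := c 4 s)
      (by have := sq_le_of_sum (f := c 4) (h.gram 4 4) s; rw [show gram6 4 4 = 2 from rfl] at this; omega)
    rcases b1 with e1 | e1 | e1
    · exact ⟨s, p, hsm, hpm, hps.symm, hs, hp, fun χ a b c => hz1 χ a c b, ys, yp,
        by rw [e1] at e; linear_combination c 1 s * e - c 4 s * hs, e1⟩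
    all_goals
      refine ⟨p, s, hpm, hsm, hps, hp, hs, hz1, yp, ys, ?_, ?_⟩ <;>
        rcases b2 with e2 | e2 | e2 <;> rcases Int.eq_one_or_neg_one_of_mul_eq_one hp with e3 | e3 <;>
          rcases Int.eq_one_or_neg_one_of_mul_eq_one hs with e4 | e4 <;>
            simp [e1, e2, e3, e4] at e ⊢
  obtain ⟨u, hpu, hu, hzu⟩ : ∃ u, p ≠ u ∧ c 4 u * c 4 u = 1 ∧ ∀ χ, χ ≠ p → χ ≠ u → c 4 χ = 0 := by
    rcases (show p = q₁ ∨ p = q₂ from by
      by_contra hn; push Not at hn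
      exact unit_ne_zero hp (h4p ▸ hz4 p hn.1 hn.2)) with e | e <;> subst e
    · exact ⟨q₂, hq, hq2, hz4⟩
    · exact ⟨q₁, hq.symm, hq1, fun χ a b => hz4 χ b a⟩
  obtain ⟨-, hyu, hzu'⟩ := h.pair_row hpu (by rw [h4p]; exact hp) hu hzu
  have hum : u ≠ m := fun e => unit_ne_zero hu (e ▸ h4m)
  have hus : u ≠ s := fun e => unit_ne_zero hu (e ▸ h4s)
  have hXu : c 0 u = 0 := hX0 u hum (kill' u (hyu ▸ yp)).1 (kill' u (hyu ▸ yp)).2
  have hYu : c 1 u = 0 := hz1 u hum hpu.symm hus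
  -- the other pair
  obtain ⟨q₁', q₂', hq', hq1', hq2', hz5⟩ := two_support (h.gram 5 5)
  have h5m : c 5 m ≠ 0 := by
    intro h0
    have e0 := h.gram 0 5
    have x0 := expand_three (R := ℤ) hma hmb hab hz0 (c 5)
    simp only [Int.cast_id] at x0
    rw [x0, h0, mul_zero, zero_add, show gram6 0 5 = 1 from rfl] at e0
    have e1 := h.gram 1 5
    have x1 := expand_three (R := ℤ) hpm.symm hsm.symm hps hz1 (c 5)
    simp only [Int.cast_id] at x1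
    rw [x1, h0, mul_zero, zero_add, show gram6 1 5 = -1 from rfl] at e1
    obtain ⟨w, hw5, hwy⟩ : ∃ w, c 5 w ≠ 0 ∧ y' w = 0 := by
      by_cases hh : c 5 p = 0
      · refine ⟨s, fun hh' => ?_, ys⟩
        rw [hh, hh'] at e1; simp at e1
      · exact ⟨p, hh, yp⟩
    obtain ⟨w', hw5', hab'⟩ : ∃ w', c 5 w' ≠ 0 ∧ (w' = a ∨ w' = b) := by
      by_cases hh : c 5 a = 0
      · refine ⟨b, fun hh' => ?_, Or.inr rfl⟩
        rw [hh, hh'] at e0; simp at e0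
      · exact ⟨a, hh, Or.inl rfl⟩
    have hne : w ≠ w' := fun e => by
      subst e
      rcases hab' with rfl | rfl
      exacts [kill.1 hwy, kill.2 hwy]
    have mem : ∀ χ, c 5 χ ≠ 0 → χ = q₁' ∨ χ = q₂' := fun χ hχ => by
      by_contra hn; push Not at hn; exact hχ (hz5 χ hn.1 hn.2)
    obtain ⟨-, hy, -⟩ := h.pair_row hq' hq1' hq2' hz5
    have hy' : y' w' = 0 := by
      rcases mem w hw5 with e | e <;> rcases mem w' hw5' with e' | e' <;> subst e <;> subst e'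
      · exact hwy
      · rw [← hy]; exact hwy
      · rw [hy]; exact hwy
      · exact hwy
    rcases hab' with rfl | rfl
    exacts [kill.1 hy', kill.2 hy']
  have hm5 : c 5 m * c 5 m = 1 := by
    have := sq_le_of_sum (f := c 5) (h.gram 5 5) m
    rcases unit_of_small (a := c 5 m) (by rw [show gram6 5 5 = 2 from rfl] at this; omega) with e | e | e
    · exact absurd e h5m
    all_goals rw [e]; norm_num
  obtain ⟨v, hmv, hv, hzv⟩ : ∃ v, m ≠ v ∧ c 5 v * c 5 v = 1 ∧ ∀ χ, χ ≠ m → χ ≠ v → c 5 χ = 0 := by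
    rcases (show m = q₁' ∨ m = q₂' from by
      by_contra hn; push Not at hn; exact h5m (hz5 m hn.1 hn.2)) with e | e <;> subst e
    · exact ⟨q₂', hq', hq2', hz5⟩
    · exact ⟨q₁', hq'.symm, hq1', fun χ a b => hz5 χ b a⟩
  obtain ⟨-, hyv, hzv'⟩ := h.pair_row hmv hm5 hv hzv
  have hXv : c 0 v = 0 := hX0 v hmv.symm (kill' v (hyv ▸ ym)).1 (kill' v (hyv ▸ ym)).2
  have h4v : c 4 v = 0 := by
    have e := h.gram 5 4
    have x := expand_two (R := ℤ) hmv hzv (c 4)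
    simp only [Int.cast_id] at x
    rw [x, h4m, mul_zero, zero_add, show gram6 5 4 = 0 from rfl] at e
    exact (mul_eq_zero.mp e).resolve_left (unit_ne_zero hv)
  have hYv : c 1 v = 0 := by
    refine hz1 v hmv.symm (fun e => unit_ne_zero hp (h4p ▸ e ▸ h4v)) fun e => ?_
    have e5 := h.gram 5 1
    have x := expand_two (R := ℤ) hmv hzv (c 1)
    simp only [Int.cast_id] at x
    rw [x, hYm, show gram6 5 1 = -1 from rfl, e] at e5
    rw [e] at hv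
    rcases Int.eq_one_or_neg_one_of_mul_eq_one hm5 with e1 | e1 <;>
      rcases Int.eq_one_or_neg_one_of_mul_eq_one hm with e2 | e2 <;>
        rcases Int.eq_one_or_neg_one_of_mul_eq_one hv with e3 | e3 <;>
          rcases Int.eq_one_or_neg_one_of_mul_eq_one hs with e4 | e4 <;>
            rw [e1, e2, e3, e4] at e5 <;> omega
  have ho : ∀ {r : Fin 6} {χ : ι}, trivCoef r = 0 → c r χ ≠ 0 → o ≠ χ := fun hr hne e => hne (e ▸ (h.triv _).trans hr)
  refine ⟨p, s, u, v, ⟨⟨hma, hmb, hab⟩, ⟨hm, ha, hb, hz0⟩, ⟨hYm, hYa, hYb⟩, ⟨hpm.symm, hsm.symm, hps⟩,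
    ⟨hp, hs, hz1⟩, ⟨hpu, h4p, hu, hzu, hXu, hYu⟩, ⟨hmv, hm5, hv, hzv, hXv, hYv, h4v⟩, ?_, ?_, kill⟩⟩
  · exact ⟨ho (r := 0) rfl (unit_ne_zero hm), ho (r := 0) rfl (unit_ne_zero ha), ho (r := 0) rfl (unit_ne_zero hb),
      ho (r := 1) rfl (unit_ne_zero hp), ho (r := 1) rfl (unit_ne_zero hs), ho (r := 4) rfl (unit_ne_zero hu),
      ho (r := 5) rfl (unit_ne_zero hv)⟩
  · exact ⟨ym, zm, za, zb, yp, ys, hyu ▸ yp, hyv ▸ ym, hzv' ▸ zm, hzu'.symm⟩

/-- The shape of the third and fourth rows. -/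
theorem Frame.row (h : Sys c d o y z) {m a b p s u v : ι} (f : Frame c o y z m a b p s u v) {r : Fin 6} {σ : ℤ}
    (hσ : σ * σ = 1) (ho : c r o = 1) (hn : ∑ χ, c r χ * c r χ = 4) (h0 : ∑ χ, c 0 χ * c r χ = σ)
    (h1 : ∑ χ, c 1 χ * c r χ = -1) (h4 : ∑ χ, c 4 χ * c r χ = -1) (h5 : ∑ χ, c 5 χ * c r χ = 0) (hk : kVV r ≠ 0) :
    c r m = 0 ∧ c r v = 0 ∧ ((c r a = σ * c 0 a ∧ c r b = 0) ∨ (c r a = 0 ∧ c r b = σ * c 0 b)) ∧
      ((c r p = -c 1 p ∧ c r s = 0 ∧ c r u = 0) ∨ (c r p = 0 ∧ c r s = -c 1 s ∧ c r u = -c 4 u)) := by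
  classical
  obtain ⟨hma, hmb, hab⟩ := f.ne0
  obtain ⟨hm, ha, hb, hz0⟩ := f.row0
  obtain ⟨hYm, hYa, hYb⟩ := f.row01
  obtain ⟨hmp, hms, hps⟩ := f.ne1
  obtain ⟨hp, hs, hz1⟩ := f.row1
  obtain ⟨hpu, h4p, hu, hzu, hXu, hYu⟩ := f.row4
  obtain ⟨hmv, hm5, hv, hzv, hXv, hYv, h4v⟩ := f.row5
  obtain ⟨nom, noa, nob, nop, nos, nou, nov⟩ := f.ne2
  obtain ⟨ym, -, -, -, yp, ys, yu, yv, -, -⟩ := f.zeros
  obtain ⟨w, hwinj, hw, hwz⟩ := four_support (f := c r) hn (ξ := o) (by rw [ho]; norm_num)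
  have mem : ∀ χ, χ ≠ o → c r χ ≠ 0 → ∃ k, w k = χ := fun χ h1 h2 => by
    by_contra hh; push Not at hh; exact h2 (hwz χ h1 hh)
  have x0 := expand_three (R := ℤ) hma hmb hab hz0 (c r)
  have x1 := expand_three (R := ℤ) hmp hms hps hz1 (c r)
  have x4 := expand_two (R := ℤ) hpu hzu (c r)
  have x5 := expand_two (R := ℤ) hmv hzv (c r)
  simp only [Int.cast_id] at x0 x1 x4 x5
  rw [x0] at h0
  rw [x1, hYm] at h1
  rw [x4, h4p] at h4
  rw [x5] at h5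
  have small : ∀ χ, χ ≠ o → c r χ = 0 ∨ c r χ = 1 ∨ c r χ = -1 := fun χ hχ => by
    by_cases hh : c r χ = 0
    · exact Or.inl hh
    · obtain ⟨k, rfl⟩ := mem χ hχ hh
      rcases Int.eq_one_or_neg_one_of_mul_eq_one (hw k).2 with e | e <;> simp [e]
  have hWm : c r m = 0 := by
    by_contra hWm
    have hWv : c r v ≠ 0 := fun e => by
      rw [e, mul_zero, add_zero] at h5
      exact mul_ne_zero (unit_ne_zero hm5) hWm h5
    obtain ⟨k₁, hk₁⟩ := mem m nom.symm hWm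
    obtain ⟨k₂, hk₂⟩ := mem v nov.symm hWv
    obtain ⟨k₃, hk₃⟩ : ∃ k₃, (w k₃ = p ∨ w k₃ = u) := by
      by_cases hh : c r p = 0
      · have : c r u ≠ 0 := fun e => by rw [hh, e] at h4; simp at h4
        obtain ⟨k, hk⟩ := mem u nou.symm this
        exact ⟨k, Or.inr hk⟩
      · obtain ⟨k, hk⟩ := mem p nop.symm hh
        exact ⟨k, Or.inl hk⟩
    have n12 : k₁ ≠ k₂ := fun e => hmv (hk₁ ▸ hk₂ ▸ e ▸ rfl)
    have n3 : k₃ ≠ k₁ ∧ k₃ ≠ k₂ := by
      constructor <;> intro e <;> rw [e] at hk₃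
      · rw [hk₁] at hk₃
        rcases hk₃ with e' | e'
        exacts [hmp e', unit_ne_zero hu (e' ▸ hzu m hmp (fun e'' => unit_ne_zero hm (e'' ▸ hXu)))]
      · rw [hk₂] at hk₃
        rcases hk₃ with e' | e'
        exacts [unit_ne_zero hp (h4p ▸ e' ▸ h4v), unit_ne_zero hu (e' ▸ h4v)]
    have hall : ∀ χ, χ ≠ o → c r χ ≠ 0 → y χ = 0 := fun χ h1 h2 => by
      obtain ⟨k, rfl⟩ := mem χ h1 h2
      rcases (by omega : k = k₁ ∨ k = k₂ ∨ k = k₃) with rfl | rfl | rfl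
      · rw [hk₁, ym]
      · rw [hk₂, yv]
      · rcases hk₃ with e | e <;> rw [e]
        exacts [yp, yu]
    have ey := h.sum_y r
    rw [Finset.sum_eq_single o (fun χ _ hχ => ?_) (by simp), ho, Int.cast_one, one_mul] at ey
    · apply hk
      rw [← h.qyy r]
      refine Finset.sum_eq_zero fun χ _ => ?_
      by_cases hχ : χ = o
      · subst hχ; simp [ey]
      · by_cases hh : c r χ = 0
        · simp [hh]
        · simp [hall χ hχ hh]
    · by_cases hh : c r χ = 0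
      · simp [hh]
      · simp [hall χ hχ hh]
  rw [hWm, mul_zero, zero_add] at h0 h1 h5
  have hWv : c r v = 0 := (mul_eq_zero.mp h5).resolve_left (unit_ne_zero hv)
  refine ⟨hWm, hWv, ?_, ?_⟩
  · rcases small a noa.symm with e | e | e
    · right; rw [e] at h0 ⊢; exact ⟨rfl, by linear_combination c 0 b * h0 - c r b * hb⟩
    all_goals
      left
      rcases small b nob.symm with e' | e' | e' <;> rcases Int.eq_one_or_neg_one_of_mul_eq_one ha with e'' | e'' <;>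
        rcases Int.eq_one_or_neg_one_of_mul_eq_one hb with e3 | e3 <;>
          rcases Int.eq_one_or_neg_one_of_mul_eq_one hσ with e4 | e4 <;>
            simp [e, e', e'', e3, e4] at h0 ⊢
  · rcases small p nop.symm with e | e | e
    · right
      rw [e] at h1 h4 ⊢
      exact ⟨rfl, by linear_combination c 1 s * h1 - c r s * hs, by linear_combination c 4 u * h4 - c r u * hu⟩
    all_goals
      left
      rcases small s nos.symm with e' | e' | e' <;> rcases small u nou.symm with e2 | e2 | e2 <;>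
        rcases Int.eq_one_or_neg_one_of_mul_eq_one hp with e'' | e'' <;>
          rcases Int.eq_one_or_neg_one_of_mul_eq_one hs with e3 | e3 <;>
            rcases Int.eq_one_or_neg_one_of_mul_eq_one hu with e4 | e4 <;>
              simp [e, e', e2, e'', e3, e4] at h1 h4 ⊢

end CfsgLib.SmallGroups.AltNineNormalizer
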