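import Cfsg.Agent.Lib.SmallGroups.AltNineNormalizer.RowTables
import Cfsg.Agent.Lib.SmallGroups.DihedralThree.Local
import Cfsg.Agent.Lib.Char.ClassAlgebra
import Cfsg.Agent.Lib.InvolChar.Basic
import Mathlib

/-!
Coefficients of six generalized characters induced from `3³ ⋊ S₄`.
-/

set_option autoImplicit false

namespace CfsgLib.SmallGroups.AltNineNormalizer

open Cfsg CfsgLib.Char CfsgLib.InvolChar
open CfsgLib.SmallGroups.ThreeCube (V)
open CfsgLib.SmallGroups.DihedralThree (twisted_sum value_conj)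
open scoped ComplexConjugate

/-- A twelfth root of unity. -/
noncomputable def zeta : ℂˣ := (Complex.isPrimitiveRoot_exp 12 (by norm_num)).isUnit (by norm_num) |>.unit

theorem zeta_pow : zeta ^ 12 = 1 :=
  Units.ext (by rw [Units.val_pow_eq_pow_val]; exact (Complex.isPrimitiveRoot_exp 12 (by norm_num)).pow_eq_one)

theorem zeta_four : (zeta : ℂ) ^ 4 = (zeta : ℂ) ^ 2 - 1 := by
  have h := Complex.isPrimitiveRoot_exp 12 (by norm_num)
  set w := (zeta : ℂ)
  have h6 : w ^ 6 = -1 := by
    have h12 : (w ^ 6) ^ 2 = 1 := by rw [← pow_mul]; exact h.pow_eq_one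
    exact (sq_eq_one_iff.mp h12).resolve_left (h.pow_ne_one_of_pos_of_lt (l := 6) (by norm_num) (by norm_num))
  have h2 : w ^ 2 + 1 ≠ 0 := fun e => by
    refine h.pow_ne_one_of_pos_of_lt (l := 4) (by norm_num) (by norm_num) ?_
    change w ^ 4 = 1
    linear_combination (w ^ 2 - 1) * e
  have e : (w ^ 2 + 1) * (w ^ 4 - w ^ 2 + 1) = 0 := by linear_combination h6
  linear_combination (mul_eq_zero.mp e).resolve_left h2

/-- Powers indexed by `ZMod 12`. -/
noncomputable def zpow12 (e : ZMod 12) : ℂˣ := zeta ^ e.val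

theorem zpow12_add (a b : ZMod 12) : zpow12 (a + b) = zpow12 a * zpow12 b := by
  rw [zpow12, zpow12, zpow12, ← pow_add, ZMod.val_add]
  conv_rhs => rw [← Nat.mod_add_div (a.val + b.val) 12, pow_add, pow_mul, zeta_pow, one_pow, mul_one]

/-- The value of a reduced expression. -/
noncomputable def zetaVal (q : Fin 4 → ℤ) : ℂ := ∑ k, (q k : ℂ) * (zeta : ℂ) ^ (k : ℕ)

theorem red_spec (e : ZMod 12) : (zpow12 e : ℂ) = zetaVal (red e) := by
  have hn : ∀ n : ℕ, (zpow12 (n : ZMod 12) : ℂ) = zetaVal (red (n : ZMod 12)) := by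
    intro n
    induction n with
    | zero => simp [zpow12, zetaVal, red_step.1, Fin.sum_univ_four]
    | succ n ih =>
      rw [Nat.cast_succ, zpow12_add, Units.val_mul, ih, show (zpow12 1 : ℂ) = zeta by simp [zpow12, show (1 : ZMod 12).val = 1 from rfl],
        red_step.2]
      simp [zetaVal, Fin.sum_univ_four]
      linear_combination (red (n : ZMod 12) 3 : ℂ) * zeta_four
  rw [← ZMod.natCast_zmod_val e]
  exact hn _

/-- A square root of three. -/
noncomputable def rootThree : ℂ := 2 * (zeta : ℂ) - (zeta : ℂ) ^ 3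

theorem rootThree_sq : rootThree * rootThree = 3 := by
  rw [rootThree]; linear_combination ((zeta : ℂ) ^ 2 - 3) * zeta_four

/-- Evaluation of a pair as `a + b√3`. -/
noncomputable def val3 : ℤ × ℤ →+ ℂ where
  toFun p := (p.1 : ℂ) + (p.2 : ℂ) * rootThree
  map_zero' := by simp
  map_add' p q := by simp; ring

theorem val3_apply (p : ℤ × ℤ) : val3 p = (p.1 : ℂ) + (p.2 : ℂ) * rootThree := rfl

theorem val3_mul (p q : ℤ × ℤ) : val3 (mul3 p q) = val3 p * val3 q := by
  simp only [val3_apply, mul3]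
  push_cast
  linear_combination -((p.2 : ℂ) * q.2) * rootThree_sq

/-- The linear character on the domain. -/
noncomputable def monChar (j : Fin 11) : monSubgroup j →* ℂˣ :=
  MonoidHom.mk' (fun x => zpow12 (monExp j x.1)) fun x y => by
    rw [Subgroup.coe_mul, monExp_mul j x y x.2 y.2, zpow12_add]

variable {G : Type*} [Group G] {Φ : Local648 →* G}

/-- The representative of a deep class. -/
def deep (a : Fin 9) : Local648 := rep (a.castLE (by norm_num))

theorem cls_deep : ∀ a : Fin 9, cls (deep a) = a.castLE (by norm_num) := by decide +kernel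

/-- `3³ ⋊ S₄` controls the fusion of its plane. -/
structure Loc (Φ : Local648 →* G) : Prop where
  inj : Function.Injective Φ
  fus : ∀ t : V, t ≠ 0 → ∀ g : G, g * Φ (pl t) * g⁻¹ ∈ Φ.range → g ∈ Φ.range

theorem Loc.deep_fus (h : Loc Φ) (a : Fin 9) (g : G) (hg : g * Φ (deep a) * g⁻¹ ∈ Φ.range) : g ∈ Φ.range := by
  obtain ⟨k, t, ht, hk⟩ := deep_power a
  refine h.fus t ht g ?_
  rw [← hk, map_pow, ← conj_pow]
  exact Subgroup.pow_mem _ hg _

theorem Loc.deep_conj (h : Loc Φ) (a : Fin 9) (y : Local648) (hc : IsConj (Φ (deep a)) (Φ y)) :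
    cls y = a.castLE (by norm_num) := by
  obtain ⟨g, hg⟩ := isConj_iff.mp hc
  obtain ⟨c, rfl⟩ := h.deep_fus a g ⟨y, hg.symm⟩
  rw [← cls_deep a]
  exact (cls_eq_of_conj (c := c) (h.inj (by simpa using hg))).symm

theorem Loc.deep_card (h : Loc Φ) (a : Fin 9) :
    Nat.card (Subgroup.centralizer ({Φ (deep a)} : Set G)) = centOrd (a.castLE (by norm_num)) := by
  rw [← centOrd_spec, ← Fintype.card_subtype, ← Nat.card_eq_fintype_card]
  refine (Nat.card_eq_of_bijective
    (fun c : {c : Local648 // c * deep a = deep a * c} => (⟨Φ c.1, Subgroup.mem_centralizer_singleton_iff.mpr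
      (by rw [← map_mul, ← map_mul, c.2])⟩ : Subgroup.centralizer ({Φ (deep a)} : Set G))) ⟨?_, ?_⟩).symm
  · exact fun x y e => Subtype.ext (h.inj (congrArg Subtype.val e))
  · rintro ⟨g, hg⟩
    rw [Subgroup.mem_centralizer_singleton_iff] at hg
    obtain ⟨c, rfl⟩ := h.deep_fus a g ⟨deep a, by rw [hg, mul_inv_cancel_right]⟩
    exact ⟨⟨c, h.inj (by simpa using hg)⟩, rfl⟩

theorem isConj_cls (x : Local648) : IsConj (Φ (rep (cls x))) (Φ x) :=
  isConj_iff.mpr ⟨Φ (conjugator x), by rw [← map_inv, ← map_mul, ← map_mul, conjugator_spec]⟩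

theorem Loc.deep_real (_h : Loc Φ) (a : Fin 9) : IsConj (Φ (deep a)) (Φ (deep a))⁻¹ := by
  rw [← map_inv]
  have := isConj_cls (Φ := Φ) (deep a)⁻¹
  have e := rep_inv_deep a
  rwa [show cls (deep a)⁻¹ = a.castLE (by norm_num) from e] at this

variable [Fintype G]

theorem exists_row_term (Φ : Local648 →* G) (χ : IrrCharacter G) (p : ℤ × Fin 11) :
    ∃ z : ℤ, ∑ x : Local648, (χ : G → ℂ) (Φ x) * zetaVal (termWeight p x) = 648 * z := by
  classical
  obtain ⟨z, hz⟩ := twisted_sum (Φ.comp (monSubgroup p.2).subtype) (monChar p.2) χ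
  refine ⟨p.1 * z, ?_⟩
  have e : ∀ x : Local648, (χ : G → ℂ) (Φ x) * zetaVal (termWeight p x) =
      if x ∈ monSubgroup p.2 then (p.1 : ℂ) * monIndex p.2 * ((χ : G → ℂ) (Φ x) * (zpow12 (monExp p.2 x) : ℂ)) else 0 := by
    intro x
    by_cases hx : x ∈ monSubgroup p.2
    · rw [if_pos hx, red_spec, zetaVal, zetaVal, Finset.mul_sum, Finset.mul_sum, Finset.mul_sum]
      refine Finset.sum_congr rfl fun k _ => ?_
      rw [termWeight, if_pos (show monIn p.2 x.right from hx)]
      push_cast; ring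
    · rw [if_neg hx, zetaVal, Finset.sum_eq_zero fun k _ => ?_, mul_zero]
      rw [termWeight, if_neg (show ¬ monIn p.2 x.right from hx)]; simp
  rw [Finset.sum_congr rfl fun x _ => e x, ← Finset.sum_filter, ← Finset.mul_sum,
    Finset.sum_subtype (Finset.univ.filter fun x : Local648 => x ∈ monSubgroup p.2) (p := fun x => x ∈ monSubgroup p.2)
      (fun x => by simp) (fun x => (χ : G → ℂ) (Φ x) * (zpow12 (monExp p.2 x) : ℂ))]
  have hc : ((Fintype.card (monSubgroup p.2) : ℕ) : ℂ) * monIndex p.2 = 648 := by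
    have := monIndex_spec p.2
    rw [← Fintype.card_subtype] at this
    exact_mod_cast this
  rw [show (∑ a : {x // x ∈ monSubgroup p.2}, (χ : G → ℂ) (Φ a.1) * (zpow12 (monExp p.2 a.1) : ℂ)) =
    (Fintype.card (monSubgroup p.2) : ℂ) * z from hz]
  rw [← hc]
  push_cast; ring

theorem exists_coef (Φ : Local648 →* G) (χ : IrrCharacter G) (r : Fin 6) :
    ∃ z : ℤ, ∑ x : Local648, (χ : G → ℂ) (Φ x) * zetaVal (rowWeight (rowList r) x) = 648 * z := by
  induction rowList r with
  | nil => exact ⟨0, by simp [rowWeight, zetaVal]⟩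
  | cons p L ih =>
    obtain ⟨z, hz⟩ := ih
    obtain ⟨z', hz'⟩ := exists_row_term Φ χ p
    refine ⟨z' + z, ?_⟩
    rw [Int.cast_add, mul_add, ← hz, ← hz', ← Finset.sum_add_distrib]
    refine Finset.sum_congr rfl fun x _ => ?_
    simp only [zetaVal, rowWeight, List.map_cons, List.sum_cons, Finset.mul_sum, ← Finset.sum_add_distrib]
    exact Finset.sum_congr rfl fun k _ => by push_cast; ring

/-- The coefficient of a row at a character. -/
noncomputable def coef (Φ : Local648 →* G) (χ : IrrCharacter G) (r : Fin 6) : ℤ := (exists_coef Φ χ r).choose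

theorem coef_spec (χ : IrrCharacter G) (r : Fin 6) :
    648 * (coef Φ χ r : ℂ) = ∑ a : Fin 9, val3 (deepSum r a) * (χ : G → ℂ) (Φ (deep a)) := by
  classical
  rw [coef, ← (exists_coef Φ χ r).choose_spec]
  rw [← Finset.sum_fiberwise Finset.univ cls]
  have e : ∀ a : Fin 14, ∑ x ∈ Finset.univ.filter (fun x => cls x = a),
      (χ : G → ℂ) (Φ x) * zetaVal (rowWeight (rowList r) x) = val3 (classSum r a) * (χ : G → ℂ) (Φ (rep a)) := by
    intro a
    rw [Finset.sum_congr rfl (g := fun x => (χ : G → ℂ) (Φ (rep a)) * zetaVal (rowWeight (rowList r) x)) fun x hx => by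
      rw [← (Finset.mem_filter.mp hx).2, value_conj χ (isConj_cls x)], ← Finset.mul_sum, mul_comm]
    congr 1
    simp only [zetaVal]
    rw [Finset.sum_comm]
    simp only [← Finset.sum_mul]
    have hk : ∀ k, ∑ x ∈ Finset.univ.filter (fun x => cls x = a), (rowWeight (rowList r) x k : ℂ) =
        ((![(classSum r a).1, 2 * (classSum r a).2, 0, -(classSum r a).2] k : ℤ) : ℂ) := fun k => by
      rw [← Int.cast_sum, ← (members_spec a).2, List.sum_toFinset _ (members_spec a).1, classSum_spec]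
    simp only [hk, Fin.sum_univ_four, val3_apply, rootThree]
    simp
    ring
  rw [Finset.sum_congr rfl fun a _ => e a]
  refine (Fin.sum_univ_add (a := 9) (b := 5)
    (fun a => val3 (classSum r a) * (χ : G → ℂ) (Φ (rep a)))).trans ?_
  rw [Finset.sum_eq_zero (s := (Finset.univ : Finset (Fin 5))) fun b _ => ?_, add_zero]
  · rfl
  · rw [classSum_zero r _ (by simp [Fin.natAdd]), show ((0, 0) : ℤ × ℤ) = 0 from rfl, map_zero, zero_mul]

theorem coef_irrOne (r : Fin 6) : coef Φ (irrOne : IrrCharacter G) r = (![0, 0, 1, 1, 0, 0] : Fin 6 → ℤ) r := by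
  have e := coef_spec (Φ := Φ) (irrOne : IrrCharacter G) r
  simp only [irrOne_apply, mul_one] at e
  rw [← map_sum, deep_total, val3_apply] at e
  simp only [Int.cast_zero, zero_mul, add_zero] at e
  push_cast at e
  exact_mod_cast mul_left_cancel₀ (show (648 : ℂ) ≠ 0 by norm_num) e

theorem Loc.sum_deep_mul (h : Loc Φ) (a b : Fin 9) :
    ∑ χ : IrrCharacter G, (χ : G → ℂ) (Φ (deep a)) * (χ : G → ℂ) (Φ (deep b)) =
      if a = b then (centOrd (a.castLE (by norm_num)) : ℂ) else 0 := by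
  classical
  have hb : ∀ χ : IrrCharacter G, conj ((χ : G → ℂ) (Φ (deep b))) = (χ : G → ℂ) (Φ (deep b)) := fun χ => by
    rw [← char_inv (isCharacter_of_isIrr χ.2), ← value_conj χ (h.deep_real b)]
  have e := second_orthogonality (Φ (deep a)) (Φ (deep b))
  simp only [hb] at e
  rw [show (∑ χ : IrrCharacter G, (χ : G → ℂ) (Φ (deep a)) * (χ : G → ℂ) (Φ (deep b))) = _ from e]
  by_cases hab : a = b
  · subst hab; rw [if_pos (IsConj.refl _), if_pos rfl, h.deep_card]
  · rw [if_neg hab, if_neg fun hc => hab ?_]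
    exact Fin.castLE_injective _ ((h.deep_conj a _ hc).symm.trans (cls_deep b))

/-- The inner products of the rows. -/
theorem Loc.coef_gram (h : Loc Φ) (r r' : Fin 6) :
    ∑ χ : IrrCharacter G, coef Φ χ r * coef Φ χ r' =
      (![![3, -1, 1, -1, 0, 1], ![-1, 3, -1, -1, 1, -1], ![1, -1, 4, 1, -1, 0], ![-1, -1, 1, 4, -1, 0],
        ![0, 1, -1, -1, 2, 0], ![1, -1, 0, 0, 0, 2]] : Fin 6 → Fin 6 → ℤ) r r' := by
  have e : ∑ χ : IrrCharacter G, (648 * (coef Φ χ r : ℂ)) * (648 * (coef Φ χ r' : ℂ)) =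
      val3 (∑ a : Fin 9, (centOrd (a.castLE (by norm_num)) : ℤ) • mul3 (deepSum r a) (deepSum r' a)) := by
    simp only [coef_spec, Finset.sum_mul_sum, map_sum]
    rw [Finset.sum_comm]
    refine Finset.sum_congr rfl fun a _ => ?_
    rw [Finset.sum_comm, map_zsmul, val3_mul, zsmul_eq_mul]
    calc ∑ b, ∑ χ : IrrCharacter G, val3 (deepSum r a) * (χ : G → ℂ) (Φ (deep a)) *
          (val3 (deepSum r' b) * (χ : G → ℂ) (Φ (deep b)))
        = ∑ b, val3 (deepSum r a) * val3 (deepSum r' b) *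
            ∑ χ : IrrCharacter G, (χ : G → ℂ) (Φ (deep a)) * (χ : G → ℂ) (Φ (deep b)) := by
          refine Finset.sum_congr rfl fun b _ => ?_
          rw [Finset.mul_sum]
          exact Finset.sum_congr rfl fun χ _ => by ring
      _ = _ := by
          simp only [h.sum_deep_mul, mul_ite, mul_zero, Finset.sum_ite_eq, Finset.mem_univ, if_true]
          push_cast; ring
  rw [deep_gram, val3_apply] at e
  push_cast at e
  rw [zero_mul, add_zero, Finset.sum_congr rfl fun χ _ => show (648 : ℂ) * (coef Φ χ r : ℂ) * (648 * (coef Φ χ r' : ℂ)) =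
    419904 * ((coef Φ χ r : ℂ) * (coef Φ χ r' : ℂ)) by ring, ← Finset.mul_sum] at e
  exact_mod_cast mul_left_cancel₀ (show (419904 : ℂ) ≠ 0 by norm_num) e

/-- The rows are orthogonal to the values off the deep classes. -/
theorem Loc.coef_orth (h : Loc Φ) (r : Fin 6) {y : Local648} (hy : 9 ≤ (cls y : ℕ)) :
    ∑ χ : IrrCharacter G, (coef Φ χ r : ℂ) * (χ : G → ℂ) (Φ y) = 0 := by
  classical
  have hz : ∀ a : Fin 9, ∑ χ : IrrCharacter G, (χ : G → ℂ) (Φ y) * (χ : G → ℂ) (Φ (deep a)) = 0 := by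
    intro a
    have e := second_orthogonality (Φ y) (Φ (deep a))
    rw [if_neg fun hc => ?_] at e
    · rw [← e]
      refine Finset.sum_congr rfl fun χ _ => ?_
      rw [← char_inv (isCharacter_of_isIrr χ.2), ← value_conj χ (h.deep_real a)]
    · rw [h.deep_conj a y hc.symm, Fin.val_castLE] at hy
      omega
  refine mul_left_cancel₀ (show (648 : ℂ) ≠ 0 by norm_num) ?_
  rw [mul_zero, Finset.mul_sum]
  simp only [← mul_assoc, coef_spec, Finset.sum_mul]
  rw [Finset.sum_comm]
  refine Finset.sum_eq_zero fun a _ => ?_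
  rw [Finset.sum_congr rfl fun (χ : IrrCharacter G) _ => show val3 (deepSum r a) * (χ : G → ℂ) (Φ (deep a)) *
    (χ : G → ℂ) (Φ y) = val3 (deepSum r a) * ((χ : G → ℂ) (Φ y) * (χ : G → ℂ) (Φ (deep a))) by ring,
    ← Finset.mul_sum, hz a, mul_zero]

end CfsgLib.SmallGroups.AltNineNormalizer
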