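import Cfsg.Agent.Lib.SmallGroups.AltNineNormalizer.Local
import Cfsg.Agent.Lib.SmallGroups.AltNineNormalizer.Config
import Mathlib

/-!
A group controlled by `3³ ⋊ S₄` has a character of degree two separating the two kinds of involutions.
-/

set_option autoImplicit false
set_option maxHeartbeats 1000000

namespace CfsgLib.SmallGroups.AltNineNormalizer

open Cfsg CfsgLib.Char CfsgLib.InvolChar
open CfsgLib.SmallGroups.DihedralThree (value_conj sum_shift total)
open scoped ComplexConjugate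

theorem model_apart :
    (∃ t : CfsgLib.SmallGroups.ThreeCube.V, t ≠ 0 ∧ cls (pl t) = 0 ∧ pl t * rep 10 = rep 10 * pl t) ∧
    (∃ u : CfsgLib.SmallGroups.ThreeCube.V, u ≠ 0 ∧ cls (pl u) = 4 ∧ cls (pl u)⁻¹ = 4 ∧
      pl u * rep 11 = rep 11 * pl u ∧
      ∀ c : Local648, c * pl u = pl u * c → c * rep 11 = rep 11 * c → c ^ 3 = 1 → c = 1 ∨ c = pl u ∨ c = (pl u)⁻¹) := by
  decide +kernel

theorem kind_cls : ∀ i : Fin 2, cls (rep (kind i)) = kind i := by decide +kernel

variable {G : Type*} [Group G] {Φ : Local648 →* G}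

/-- The two kinds of involutions are not fused. -/
theorem Loc.kinds_apart [Finite G] (h : Loc Φ) : ¬ IsConj (Φ (rep 10)) (Φ (rep 11)) := by
  classical
  intro hc
  haveI : Fact (Nat.Prime 3) := ⟨Nat.prime_three⟩
  obtain ⟨⟨t, ht, ct, hct⟩, u, hu, cu, cui, hcu, hcent⟩ := model_apart
  obtain ⟨g, hg⟩ := isConj_iff.mp hc
  set C := Subgroup.centralizer ({Φ (rep 11)} : Set G)
  have hord : ∀ {w : CfsgLib.SmallGroups.ThreeCube.V}, w ≠ 0 → orderOf (Φ (pl w)) = 3 := fun {w} hw =>
    orderOf_eq_prime (by rw [← map_pow, (pl_facts w).1, map_one])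
      fun e => (pl_facts w).2 hw (h.inj (e.trans (map_one Φ).symm))
  have hxC : Φ (pl u) ∈ C := Subgroup.mem_centralizer_singleton_iff.mpr (by rw [← map_mul, ← map_mul, hcu])
  have hyC : g * Φ (pl t) * g⁻¹ ∈ C := Subgroup.mem_centralizer_singleton_iff.mpr (by
    rw [← hg]
    calc g * Φ (pl t) * g⁻¹ * (g * Φ (rep 10) * g⁻¹) = g * (Φ (pl t) * Φ (rep 10)) * g⁻¹ := by group
      _ = g * (Φ (rep 10) * Φ (pl t)) * g⁻¹ := by rw [← map_mul, hct, map_mul]
      _ = g * Φ (rep 10) * g⁻¹ * (g * Φ (pl t) * g⁻¹) := by group)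
  set x : C := ⟨_, hxC⟩ with hxdef
  set y : C := ⟨_, hyC⟩ with hydef
  have hox : orderOf x = 3 := by rw [← Subgroup.orderOf_coe]; exact hord hu
  have hoy : orderOf y = 3 := by
    rw [← Subgroup.orderOf_coe]
    show orderOf (MulAut.conj g (Φ (pl t))) = 3
    rw [MulEquiv.orderOf_eq, hord ht]
  -- a Sylow subgroup through `x` is cyclic of order three
  obtain ⟨Q, hQ⟩ := (IsPGroup.of_card (p := 3) (n := 1) (G := Subgroup.zpowers x)
    (by rw [Nat.card_zpowers, hox, pow_one])).exists_le_sylow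
  have hxQ : x ∈ (Q : Subgroup C) := hQ (Subgroup.mem_zpowers x)
  have hcentx : ∀ z : C, z ∈ (Q : Subgroup C) → z * x = x * z → z ∈ Subgroup.zpowers x := by
    intro z hz hzx
    have hzG : (z : G) * Φ (pl u) = Φ (pl u) * (z : G) := congrArg Subtype.val hzx
    obtain ⟨c, hcz⟩ := h.fus u hu z ⟨pl u, by rw [hzG, mul_inv_cancel_right]⟩
    have c1 : c * pl u = pl u * c := h.inj (by rw [map_mul, map_mul, hcz, hzG])
    have c2 : c * rep 11 = rep 11 * c := h.inj (by
      rw [map_mul, map_mul, hcz]; exact Subgroup.mem_centralizer_singleton_iff.mp z.2)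
    obtain ⟨k, hk⟩ := Q.isPGroup' ⟨z, hz⟩
    have hzk : (z : G) ^ 3 ^ k = 1 := congrArg (fun w : (Q : Subgroup C) => ((w : C) : G)) hk
    have hc3 : c ^ 3 ^ k = 1 := h.inj (by rw [map_pow, hcz, hzk, map_one])
    have hc81 : orderOf c ∣ 81 := by
      obtain ⟨j, hj, hjo⟩ := (Nat.dvd_prime_pow Nat.prime_three).mp (orderOf_dvd_of_pow_eq_one hc3)
      rw [hjo]
      have hdvd : orderOf c ∣ 648 := by
        have hcard : Nat.card Local648 = 648 := by rw [Nat.card_eq_fintype_card]; decide +kernel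
        exact hcard ▸ orderOf_dvd_natCard c
      rw [hjo] at hdvd
      have hj4 : j ≤ 4 := by
        by_contra h5
        have : 3 ^ 5 ∣ 648 := dvd_trans (pow_dvd_pow 3 (by omega)) hdvd
        norm_num at this
      exact (pow_dvd_pow 3 hj4).trans (by norm_num)
    have h81 : ∀ d : Local648, d * pl u = pl u * d → d * rep 11 = rep 11 * d → orderOf d ∣ 81 → d ^ 3 = 1 := by
      intro d d1 d2 d3
      let Z : Subgroup Local648 := Subgroup.centralizer {pl u} ⊓ Subgroup.centralizer {rep 11}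
      have hd : d ∈ Z := ⟨Subgroup.mem_centralizer_singleton_iff.mpr d1, Subgroup.mem_centralizer_singleton_iff.mpr d2⟩
      have h6 : Nat.card Z ∣ Nat.card (Subgroup.centralizer ({rep 11} : Set Local648)) :=
        Subgroup.card_dvd_of_le inf_le_right
      have h12 : Nat.card (Subgroup.centralizer ({rep 11} : Set Local648)) = 12 := by
        rw [show (12 : ℕ) = centOrd 11 from rfl, ← centOrd_spec, ← Fintype.card_subtype, ← Nat.card_eq_fintype_card]
        exact Nat.card_congr (Equiv.subtypeEquivRight fun c => Subgroup.mem_centralizer_singleton_iff)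
      rw [h12] at h6
      have hod : orderOf d ∣ 12 := (Subgroup.orderOf_dvd_natCard Z hd).trans h6
      have : orderOf d ∣ 3 := Nat.dvd_gcd d3 hod
      exact orderOf_dvd_iff_pow_eq_one.mp this
    rcases hcent c c1 c2 (h81 c c1 c2 hc81) with e | e | e <;> subst e
    · rw [map_one] at hcz
      rw [show z = 1 from Subtype.ext hcz.symm]; exact one_mem _
    · rw [show z = x from Subtype.ext hcz.symm]; exact Subgroup.mem_zpowers x
    · rw [map_inv] at hcz
      rw [show z = x⁻¹ from Subtype.ext hcz.symm]; exact inv_mem (Subgroup.mem_zpowers x)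
  have hQeq : (Q : Subgroup C) = Subgroup.zpowers x := by
    refine le_antisymm (fun z hz => ?_) hQ
    haveI : Nontrivial (Q : Subgroup C) := ⟨⟨⟨x, hxQ⟩, 1, fun e => by
      have : x = 1 := congrArg Subtype.val e
      rw [this, orderOf_one] at hox; omega⟩⟩
    haveI := Q.isPGroup'.center_nontrivial
    obtain ⟨⟨c, hc⟩, hc1⟩ := exists_ne (1 : Subgroup.center (Q : Subgroup C))
    have hcc : ∀ w : (Q : Subgroup C), w * c = c * w := fun w => Subgroup.mem_center_iff.mp hc w
    have hcx : (c : C) ∈ Subgroup.zpowers x := hcentx c c.2 (congrArg Subtype.val (hcc ⟨x, hxQ⟩)).symm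
    have hcne : (c : C) ≠ 1 := fun e => hc1 (Subtype.ext (Subtype.ext e))
    have hzc : Subgroup.zpowers (c : C) = Subgroup.zpowers x := by
      refine Subgroup.eq_of_le_of_card_ge (Subgroup.zpowers_le.mpr hcx) ?_
      have hd : orderOf (c : C) ∣ 3 := by
        have := Subgroup.orderOf_dvd_natCard _ hcx
        rwa [Nat.card_zpowers, hox] at this
      rw [Nat.card_zpowers, Nat.card_zpowers, hox]
      rcases (Nat.dvd_prime Nat.prime_three).mp hd with e | e
      · exact absurd (orderOf_eq_one_iff.mp e) hcne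
      · omega
    refine hcentx z hz ?_
    obtain ⟨k, hk⟩ := Subgroup.mem_zpowers_iff.mp (hzc ▸ Subgroup.mem_zpowers x : x ∈ Subgroup.zpowers (c : C))
    rw [← hk]
    exact (Commute.zpow_right (congrArg Subtype.val (hcc ⟨z, hz⟩) : Commute z (c : C)) k).eq
  obtain ⟨S, hS⟩ := (IsPGroup.of_card (p := 3) (n := 1) (G := Subgroup.zpowers y)
    (by rw [Nat.card_zpowers, hoy, pow_one])).exists_le_sylow
  obtain ⟨e, he⟩ := MulAction.exists_smul_eq C S Q
  have hye : e * y * e⁻¹ ∈ Subgroup.zpowers x := by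
    rw [← hQeq, ← he]; exact ⟨y, hS (Subgroup.mem_zpowers y), rfl⟩
  obtain ⟨k, hk⟩ := Subgroup.mem_zpowers_iff.mp hye
  have hk' : ((e : G) * g) * Φ (pl t) * ((e : G) * g)⁻¹ = Φ (pl u ^ k) := by
    have := congrArg Subtype.val hk
    rw [map_zpow]
    simp only [Subgroup.coe_mul, Subgroup.coe_inv, Subgroup.coe_zpow, hxdef, hydef] at this
    rw [this]; group
  obtain ⟨c, hc'⟩ := h.fus t ht _ ⟨_, hk'.symm⟩
  rw [← hc', ← map_inv, ← map_mul, ← map_mul] at hk'
  have e4 := cls_eq_of_conj (h.inj hk')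
  rw [ct] at e4
  have hmod : pl u ^ k = pl u ^ (k % 3) := by
    conv_lhs => rw [← Int.emod_add_mul_ediv k 3, zpow_add, zpow_mul]
    norm_cast
    rw [(pl_facts u).1, one_zpow, mul_one]
  rw [hmod] at e4
  have h1 : k % 3 = 0 ∨ k % 3 = 1 ∨ k % 3 = 2 := by omega
  rcases h1 with e | e | e <;> rw [e] at e4
  · rw [zpow_zero, show cls 1 = 9 by decide +kernel] at e4; exact absurd e4 (by decide)
  · rw [zpow_one, cu] at e4; exact absurd e4 (by decide)
  · have : pl u ^ (2 : ℤ) = (pl u)⁻¹ := by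
      refine eq_inv_of_mul_eq_one_left ?_
      rw [← zpow_add_one]; norm_cast; exact (pl_facts u).1
    rw [this, cui] at e4; exact absurd e4 (by decide)

variable [Fintype G]

/-- The class of an involution kind. -/
noncomputable def kindSet648 (Φ : Local648 →* G) (i : Fin 2) : Finset G := by
  classical exact Finset.univ.filter fun x => IsConj (Φ (rep (kind i))) x

theorem mem_kindSet648 {i : Fin 2} {x : G} : x ∈ kindSet648 Φ i ↔ IsConj (Φ (rep (kind i))) x := by
  simp [kindSet648]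

theorem kindSet648_sq {i : Fin 2} {x : G} (hx : x ∈ kindSet648 Φ i) : x * x = 1 := by
  obtain ⟨g, rfl⟩ := isConj_iff.mp (mem_kindSet648.mp hx)
  rw [conj_mul, ← map_mul, (kind_sq i).1, map_one]; simp

theorem Loc.mem_kind648 (h : Loc Φ) (i : Fin 2) (a : Local648) : Φ a ∈ kindSet648 Φ i ↔ cls a = kind i := by
  constructor
  · intro hm
    have ha : a * a = 1 := h.inj (by rw [map_mul, map_one, kindSet648_sq hm])
    have ha1 : a ≠ 1 := by
      rintro rfl
      rw [mem_kindSet648, map_one, isConj_one_left] at hm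
      exact (kind_sq i).2 (h.inj (hm.trans (map_one Φ).symm))
    have hc : IsConj (Φ (rep (kind i))) (Φ (rep (cls a))) := (mem_kindSet648.mp hm).trans (isConj_cls a).symm
    rcases involution_cls a ha ha1 with e | e <;> rw [e] at hc ⊢ <;> fin_cases i <;>
      first
        | rfl
        | exact absurd hc h.kinds_apart
        | exact absurd hc.symm h.kinds_apart
  · intro ha
    exact mem_kindSet648.mpr (ha ▸ isConj_cls a)

theorem Loc.pairs_card648 (h : Loc Φ) (a : Fin 9) (i j : Fin 2) [DecidableEq G] :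
    ((kindSet648 Φ i ×ˢ kindSet648 Φ j).filter fun z => z.1 * z.2 = Φ (deep a)).card = pairTab a i j := by
  rw [← pairTab_spec]
  refine (Finset.card_bij (fun x _ => (Φ x, Φ (x * deep a))) ?_ ?_ ?_).symm
  · intro x hx
    obtain ⟨-, h1, h2⟩ := Finset.mem_filter.mp hx
    refine Finset.mem_filter.mpr ⟨Finset.mem_product.mpr
      ⟨(h.mem_kind648 i x).mpr h1, (h.mem_kind648 j _).mpr h2⟩, ?_⟩
    have hsq : Φ x * Φ x = 1 := kindSet648_sq ((h.mem_kind648 i x).mpr h1)
    rw [map_mul, ← mul_assoc, hsq, one_mul]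
  · exact fun x _ y _ e => h.inj (congrArg Prod.fst e)
  · rintro ⟨x, x'⟩ hz
    obtain ⟨hm, he⟩ := Finset.mem_filter.mp hz
    obtain ⟨hx, hx'⟩ := Finset.mem_product.mp hm
    simp only at he hx hx'
    have e1 := kindSet648_sq hx
    have e2 := kindSet648_sq hx'
    have hxe : x' = x * Φ (deep a) := by rw [← he, ← mul_assoc, e1, one_mul]
    have hinv : x * Φ (deep a) * x⁻¹ = (Φ (deep a))⁻¹ := by
      rw [← he, mul_inv_rev, inv_eq_of_mul_eq_one_left e1, inv_eq_of_mul_eq_one_left e2, ← mul_assoc, e1, one_mul]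
    obtain ⟨c, rfl⟩ := h.deep_fus a x (by rw [hinv]; exact inv_mem ⟨_, rfl⟩)
    rw [← map_mul] at hxe
    exact ⟨c, Finset.mem_filter.mpr ⟨Finset.mem_univ _, (h.mem_kind648 i c).mp hx,
      (h.mem_kind648 j _).mp (hxe ▸ hx')⟩, by rw [hxe]⟩

/-- The value at an involution of a given kind. -/
noncomputable def kindVal (Φ : Local648 →* G) (i : Fin 2) (χ : IrrCharacter G) : ℤ :=
  intVal χ (show Φ (rep (kind i)) * Φ (rep (kind i)) = 1 by rw [← map_mul, (kind_sq i).1, map_one])

theorem kindVal_spec (i : Fin 2) (χ : IrrCharacter G) : (χ : G → ℂ) (Φ (rep (kind i))) = (kindVal Φ i χ : ℂ) :=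
  intVal_spec χ _

theorem Loc.coef_kinds (h : Loc Φ) (r : Fin 6) (i j : Fin 2) :
    ((kindSet648 Φ i).card : ℂ) * (kindSet648 Φ j).card *
        ∑ χ : IrrCharacter G, (coef Φ χ r : ℂ) * ((kindVal Φ i χ : ℂ) * kindVal Φ j χ / (deg χ : ℂ)) * 648 =
      (Nat.card G : ℂ) * pairSum r i j := by
  classical
  set S := kindSet648 Φ i
  set T := kindSet648 Φ j
  have hS : ∀ x ∈ S, ∀ g, g * x * g⁻¹ ∈ S := fun x hx g =>
    mem_kindSet648.mpr ((mem_kindSet648.mp hx).trans (isConj_iff.mpr ⟨g, rfl⟩))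
  have hT : ∀ x ∈ T, ∀ g, g * x * g⁻¹ ∈ T := fun x hx g =>
    mem_kindSet648.mpr ((mem_kindSet648.mp hx).trans (isConj_iff.mpr ⟨g, rfl⟩))
  have htot : ∀ (k : Fin 2) (χ : IrrCharacter G), total (kindSet648 Φ k) χ =
      (kindSet648 Φ k).card * (kindVal Φ k χ : ℂ) := by
    intro k χ
    rw [total, Finset.sum_congr rfl fun x hx => (value_conj χ (mem_kindSet648.mp hx)).symm, Finset.sum_const,
      nsmul_eq_mul, kindVal_spec]
  have main : ∀ a : Fin 9, ∑ χ : IrrCharacter G, total S χ * total T χ * (χ : G → ℂ) (Φ (deep a)) / (χ : G → ℂ) 1 =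
      (Nat.card G : ℂ) * pairTab a i j := by
    intro a
    rw [Finset.sum_congr rfl fun χ _ => show total S χ * total T χ * (χ : G → ℂ) (Φ (deep a)) / (χ : G → ℂ) 1 =
      total S χ * total T χ * (χ : G → ℂ) (Φ (deep a))⁻¹ / (χ : G → ℂ) 1 by rw [value_conj χ (h.deep_real a)]]
    set w := (Φ (deep a))⁻¹ with hw
    calc _ = ∑ χ : IrrCharacter G, ∑ b ∈ S, ∑ c ∈ T, (χ : G → ℂ) 1 * (χ : G → ℂ) (b * c * w) := by
          refine Finset.sum_congr rfl fun χ _ => ?_
          have h1 := irr_one_ne_zero χ.2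
          simp only [mul_assoc _ _ w, ← Finset.mul_sum]
          rw [Finset.sum_comm (s := S)]
          simp only [sum_shift hS χ, ← Finset.sum_div, ← Finset.mul_sum, sum_shift hT χ]
          field_simp
      _ = ∑ b ∈ S, ∑ c ∈ T, if b * c * w = 1 then (Nat.card G : ℂ) else 0 := by
          rw [Finset.sum_comm]
          refine Finset.sum_congr rfl fun b _ => ?_
          rw [Finset.sum_comm]
          exact Finset.sum_congr rfl fun c _ => sum_degree_mul_apply _
      _ = _ := by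
          rw [← Finset.sum_product', Finset.sum_ite, Finset.sum_const_zero, add_zero, Finset.sum_const, nsmul_eq_mul,
            Finset.filter_congr fun z _ => show (z.1 * z.2 * w = 1) ↔ z.1 * z.2 = Φ (deep a) by
              rw [hw, mul_inv_eq_one], h.pairs_card648 a i j, mul_comm]
  have e : ∑ a : Fin 9, val3 (deepSum r a) * ((Nat.card G : ℂ) * pairTab a i j) =
      (Nat.card G : ℂ) * pairSum r i j := by
    have := congrArg val3 (pairSum_spec r i j)
    rw [map_sum, val3_apply (pairSum r i j, 0)] at this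
    simp only [map_zsmul] at this
    simp only [zsmul_eq_mul, Int.cast_natCast, Int.cast_zero, zero_mul, add_zero] at this
    rw [← this, Finset.mul_sum]
    exact Finset.sum_congr rfl fun a _ => by ring
  rw [← e]
  simp only [← main, Finset.mul_sum]
  rw [Finset.sum_comm]
  refine Finset.sum_congr rfl fun χ _ => ?_
  rw [htot i χ, htot j χ, deg_spec,
    show ((kindSet648 Φ i).card : ℂ) * (kindSet648 Φ j).card *
        ((coef Φ χ r : ℂ) * ((kindVal Φ i χ : ℂ) * kindVal Φ j χ / (deg χ : ℂ)) * 648) =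
      (648 * (coef Φ χ r : ℂ)) * (((kindSet648 Φ i).card * (kindVal Φ i χ : ℂ)) *
        ((kindSet648 Φ j).card * (kindVal Φ j χ : ℂ)) / (deg χ : ℂ)) by ring,
    coef_spec, Finset.sum_mul]
  exact Finset.sum_congr rfl fun a _ => by ring

/-- A character of degree two, trivial at one kind and not at the other. -/
theorem Loc.exists_two (h : Loc Φ) : ∃ χ : IrrCharacter G, deg χ = 2 ∧
    (χ : G → ℂ) (Φ (rep 10)) = 2 ∧ (χ : G → ℂ) (Φ (rep 11)) ≠ 2 := by
  classical
  set n : Fin 2 → ℝ := fun i => ((kindSet648 Φ i).card : ℝ) with hn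
  have hn0 : ∀ i, 0 < n i := fun i => by
    have : (kindSet648 Φ i).Nonempty := ⟨_, mem_kindSet648.mpr (IsConj.refl _)⟩
    simp only [hn]
    exact_mod_cast Finset.card_pos.mpr this
  set g : ℝ := (Nat.card G : ℝ) / 648 with hg
  have hg0 : 0 < g := div_pos (by exact_mod_cast Nat.card_pos) (by norm_num)
  set τ : Fin 2 → ℝ := fun i => n i / ((![54, 27] : Fin 2 → ℝ) i * Real.sqrt g) with hτ
  have hd0 : ∀ χ : IrrCharacter G, (deg χ : ℝ) ≠ 0 := fun χ => by exact_mod_cast (deg_pos χ).ne'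
  have hquad : ∀ r i j, ∑ χ : IrrCharacter G, (coef Φ χ r : ℝ) *
      ((τ i * kindVal Φ i χ) * (τ j * kindVal Φ j χ) / (deg χ : ℤ)) =
      (pairSum r i j : ℝ) / ((![54, 27] : Fin 2 → ℝ) i * (![54, 27] : Fin 2 → ℝ) j) := by
    intro r i j
    have e : n i * n j * ∑ χ : IrrCharacter G, (coef Φ χ r : ℝ) * ((kindVal Φ i χ : ℝ) * kindVal Φ j χ / (deg χ : ℝ)) * 648 =
        (Nat.card G : ℝ) * pairSum r i j := by
      refine Complex.ofReal_injective ?_
      have := h.coef_kinds r i j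
      push_cast [hn]
      exact this
    have hs : Real.sqrt g * Real.sqrt g = g := Real.mul_self_sqrt hg0.le
    have hs0 : Real.sqrt g ≠ 0 := (Real.sqrt_pos.mpr hg0).ne'
    have hv : ∀ k : Fin 2, (![54, 27] : Fin 2 → ℝ) k ≠ 0 := by intro k; fin_cases k <;> norm_num
    rw [Finset.sum_congr rfl fun χ _ => show (coef Φ χ r : ℝ) *
        ((τ i * kindVal Φ i χ) * (τ j * kindVal Φ j χ) / ((deg χ : ℤ) : ℝ)) =
        τ i * τ j / 648 * ((coef Φ χ r : ℝ) * ((kindVal Φ i χ : ℝ) * kindVal Φ j χ / (deg χ : ℝ)) * 648) by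
      push_cast; ring, ← Finset.mul_sum]
    simp only [hτ]
    have hG : (Nat.card G : ℝ) = 648 * (Real.sqrt g * Real.sqrt g) := by rw [hs, hg]; ring
    rw [hG] at e
    generalize (∑ χ : IrrCharacter G, (coef Φ χ r : ℝ) *
      ((kindVal Φ i χ : ℝ) * kindVal Φ j χ / (deg χ : ℝ)) * 648) = Sm at e ⊢
    have := hv i; have := hv j
    field_simp
    linear_combination e
  have hsum : ∀ r i, ∑ χ : IrrCharacter G, (coef Φ χ r : ℝ) * (τ i * kindVal Φ i χ) = 0 := by
    intro r i
    have e := h.coef_orth r (y := rep (kind i)) (by rw [kind_cls]; fin_cases i <;> decide)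
    simp only [kindVal_spec] at e
    have e' : ∑ χ : IrrCharacter G, coef Φ χ r * kindVal Φ i χ = 0 := by exact_mod_cast e
    rw [Finset.sum_congr rfl fun χ _ => show (coef Φ χ r : ℝ) * (τ i * kindVal Φ i χ) =
      τ i * ((coef Φ χ r * kindVal Φ i χ : ℤ) : ℝ) by push_cast; ring, ← Finset.mul_sum, ← Int.cast_sum, e']
    simp
  have hsys : Sys (fun r χ => coef Φ χ r) (fun χ => (deg χ : ℤ)) (irrOne : IrrCharacter G)
      (fun χ => τ 0 * kindVal Φ 0 χ) (fun χ => τ 1 * kindVal Φ 1 χ) := by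
    refine ⟨fun r r' => h.coef_gram r r', fun r => coef_irrOne r, by simp [deg_irrOne],
      fun χ => by exact_mod_cast deg_pos χ, fun r => ?_, fun r => hsum r 0, fun r => hsum r 1,
      fun r => (hquad r 0 0).trans ?_, fun r => (hquad r 0 1).trans ?_, fun r => (hquad r 1 1).trans ?_⟩
    · have e := h.coef_orth r (y := 1) (by decide +kernel)
      simp only [map_one, deg_spec] at e
      exact_mod_cast e
    all_goals fin_cases r <;> simp [pairSum, kVV, kVZ, kZZ] <;> norm_num
  obtain ⟨χ, hdeg, hz, hy⟩ := hsys.exists_two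
  have hdeg' : deg χ = 2 := by exact_mod_cast hdeg
  have hτ0 : ∀ i, τ i ≠ 0 := fun i => (div_pos (hn0 i)
    (mul_pos (by fin_cases i <;> norm_num) (Real.sqrt_pos.mpr hg0))).ne'
  have h1 : ∀ i, kindVal Φ i (irrOne : IrrCharacter G) = 1 := fun i => intVal_irrOne _
  simp only [h1, Int.cast_one, mul_one] at hz hy
  refine ⟨χ, hdeg', ?_, fun e => hy ?_⟩
  · rw [show (10 : Fin 14) = kind 1 from rfl, kindVal_spec]
    have : (kindVal Φ 1 χ : ℝ) = 2 := mul_left_cancel₀ (hτ0 1) (by rw [hz]; ring)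
    have : kindVal Φ 1 χ = 2 := by exact_mod_cast this
    rw [this]; norm_num
  · rw [show (11 : Fin 14) = kind 0 from rfl, kindVal_spec] at e
    have : kindVal Φ 0 χ = 2 := by exact_mod_cast e
    rw [this]; push_cast; ring

end CfsgLib.SmallGroups.AltNineNormalizer
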