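import Cfsg.Agent.Lib.SmallGroups.AltNineNormalizer.Tables
import Cfsg.Agent.Lib.SmallGroups.ThreeCube.Model
import Mathlib

/-!
The group `3³ ⋊ S₄` of order `648`.
-/

set_option autoImplicit false
set_option maxHeartbeats 1000000

namespace CfsgLib.SmallGroups.AltNineNormalizer

open CfsgLib.SmallGroups.ThreeCube (V dotV)

/-- An entry of a table. -/
def entry (T : List (List ℕ)) (i j : ℕ) : ℕ := (T.getD i []).getD j 0

/-- `S₄`, as monomial matrices of determinant one. -/
structure W24 where
  idx : Fin 24
deriving DecidableEq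

def W24.equivFin : Fin 24 ≃ W24 := ⟨W24.mk, W24.idx, fun _ => rfl, fun _ => rfl⟩

instance instFintypeW24 : Fintype W24 := Fintype.ofEquiv _ W24.equivFin

instance instMulW24 : Mul W24 := ⟨fun a b => ⟨Fin.ofNat 24 (entry mulTab a.idx b.idx)⟩⟩

instance instOneW24 : One W24 := ⟨⟨0⟩⟩

instance instInvW24 : Inv W24 := ⟨fun a => ⟨Fin.ofNat 24 (invTab.getD a.idx 0)⟩⟩

theorem W24.assoc_table : ∀ a b c : W24, a * b * c = a * (b * c) := by decide +kernel

theorem W24.one_mul_table : ∀ a : W24, 1 * a = a := by decide +kernel

theorem W24.inv_mul_table : ∀ a : W24, a⁻¹ * a = 1 := by decide +kernel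

instance instGroupW24 : Group W24 := Group.ofLeftAxioms W24.assoc_table W24.one_mul_table W24.inv_mul_table

/-- A coordinate of the image of a vector. -/
def coord (w : W24) (t : V) (j : ℕ) : ZMod 3 :=
  (entry sgnTab w.idx j : ZMod 3) * (match entry srcTab w.idx j with | 0 => t.1 | 1 => t.2.1 | _ => t.2.2)

/-- The monomial action. -/
def act (w : W24) (t : V) : V := (coord w t 0, coord w t 1, coord w t 2)

theorem act_add : ∀ w t u, act w (t + u) = act w t + act w u := by decide +kernel

theorem act_mul : ∀ w w' t, act (w * w') t = act w (act w' t) := by decide +kernel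

theorem act_one : ∀ t, act 1 t = t := by decide +kernel

def actAut (w : W24) : MulAut (Multiplicative V) where
  toFun t := Multiplicative.ofAdd (act w t.toAdd)
  invFun t := Multiplicative.ofAdd (act w⁻¹ t.toAdd)
  left_inv t := by simp [← act_mul, act_one]
  right_inv t := by simp [← act_mul, act_one]
  map_mul' t u := by simp [act_add, ofAdd_add]

def actHom : W24 →* MulAut (Multiplicative V) where
  toFun := actAut
  map_one' := MulEquiv.ext fun t => Multiplicative.toAdd.injective (act_one _)
  map_mul' w w' := MulEquiv.ext fun t => Multiplicative.toAdd.injective (act_mul _ _ _)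

/-- The group of order `648`. -/
abbrev Local648 := Multiplicative V ⋊[actHom] W24

instance instFintypeLocal648 : Fintype Local648 := Fintype.ofEquiv _ SemidirectProduct.equivProd.symm

instance instDecidableEqLocal648 : DecidableEq Local648 := fun a b =>
  decidable_of_iff (a.left = b.left ∧ a.right = b.right) SemidirectProduct.ext_iff.symm

/-- The element with the given code. -/
def dec (n : ℕ) : Local648 :=
  ⟨Multiplicative.ofAdd ((n / 9 : ℕ), (n / 3 : ℕ), (n : ℕ)), ⟨Fin.ofNat 24 (n / 27)⟩⟩

/-- The code of a plane element. -/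
def codeV (t : V) : ℕ := 9 * t.1.val + 3 * t.2.1.val + t.2.2.val

/-- The class of an element. -/
def cls (x : Local648) : Fin 14 := Fin.ofNat 14 (entry clsTab x.right.idx (codeV x.left.toAdd))

/-- A representative of each class. -/
def rep (a : Fin 14) : Local648 := dec (repTab.getD a 0)

/-- The plane element. -/
def pl (t : V) : Local648 := SemidirectProduct.inl (Multiplicative.ofAdd t)

/-- A conjugator to the representative. -/
def conjugator (x : Local648) : Local648 := dec (entry conjTab x.right.idx (codeV x.left.toAdd))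

theorem conjugator_spec : ∀ x, conjugator x * rep (cls x) * (conjugator x)⁻¹ = x := by decide +kernel

theorem cls_conj : ∀ (a : Fin 14) (c : Local648), cls (c * rep a * c⁻¹) = a := by decide +kernel

theorem cls_eq_of_conj {x y c : Local648} (h : c * x * c⁻¹ = y) : cls x = cls y := by
  rw [← h]
  conv_rhs => rw [← conjugator_spec x]
  rw [show c * (conjugator x * rep (cls x) * (conjugator x)⁻¹) * c⁻¹ =
    (c * conjugator x) * rep (cls x) * (c * conjugator x)⁻¹ by group, cls_conj]

/-- The orders of centralizers of the representatives. -/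
def centOrd : Fin 14 → ℕ := ![108, 12, 12, 12, 54, 6, 81, 9, 9, 648, 24, 12, 12, 9]

theorem centOrd_spec : ∀ a : Fin 14, (Finset.univ.filter fun c : Local648 => c * rep a = rep a * c).card = centOrd a := by
  decide +kernel

/-- The classes of the two kinds of involutions. -/
def kind : Fin 2 → Fin 14 := ![11, 10]

theorem involution_cls : ∀ x : Local648, x * x = 1 → x ≠ 1 → cls x = kind 0 ∨ cls x = kind 1 := by decide +kernel

/-- Pairs of involutions of given classes with given product. -/
def pairs648 (a : Fin 14) (i j : Fin 2) : ℕ :=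
  (Finset.univ.filter fun x : Local648 => cls x = kind i ∧ cls (x * rep a) = kind j).card

/-- The pair counts. -/
def pairTab : Fin 9 → Fin 2 → Fin 2 → ℕ :=
  ![![![18, 0], ![0, 18]], ![![6, 0], ![0, 6]], ![![0, 6], ![6, 0]], ![![0, 6], ![6, 0]], ![![9, 0], ![0, 9]],
    ![![0, 3], ![3, 0]], ![![27, 0], ![0, 0]], ![![9, 0], ![0, 0]], ![![9, 0], ![0, 0]]]

theorem pairTab_spec : ∀ (a : Fin 9) i j, pairs648 (a.castLE (by norm_num)) i j = pairTab a i j := by decide +kernel

theorem kind_sq : ∀ i, rep (kind i) * rep (kind i) = 1 ∧ rep (kind i) ≠ 1 := by decide +kernel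

/-- The classes with `3`-part in the plane, or whose cube is in the plane. -/
theorem deep_power : ∀ a : Fin 9, ∃ k : Fin 9, ∃ t : V, t ≠ 0 ∧ rep (a.castLE (by norm_num)) ^ (k : ℕ) = pl t := by
  decide +kernel

theorem rep_inv_deep : ∀ a : Fin 9, cls (rep (a.castLE (by norm_num)))⁻¹ = a.castLE (by norm_num) := by
  decide +kernel

theorem pl_cls : ∀ t : V, t ≠ 0 → cls (pl t) = 0 ∨ cls (pl t) = 4 ∨ cls (pl t) = 6 := by decide +kernel

theorem pl_facts : ∀ t : V, pl t ^ 3 = 1 ∧ (t ≠ 0 → pl t ≠ 1) := by decide +kernel

theorem pl_add : ∀ t u, pl (t + u) = pl t * pl u := by decide +kernel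

end CfsgLib.SmallGroups.AltNineNormalizer
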