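import Cfsg.Agent.Lib.SmallGroups.AltNineNormalizer.Model
import Mathlib

/-!
Six generalized characters of `3³ ⋊ S₄` given by monomial characters, and their class sums.
-/

set_option autoImplicit false
set_option maxHeartbeats 1000000

namespace CfsgLib.SmallGroups.AltNineNormalizer

open CfsgLib.SmallGroups.ThreeCube (V dotV)

/-- The plane weight of a monomial character. -/
def monL (j : Fin 11) : V :=
  ((monWeight.getD j (0, 0, 0)).1, (monWeight.getD j (0, 0, 0)).2.1, (monWeight.getD j (0, 0, 0)).2.2)

/-- Membership in the stabilizer. -/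
def monIn (j : Fin 11) (w : W24) : Prop := entry monSub j w.idx ≠ 0

instance instDecidableMonIn (j : Fin 11) (w : W24) : Decidable (monIn j w) :=
  inferInstanceAs (Decidable (_ ≠ _))

/-- The exponent on the stabilizer. -/
def monMu (j : Fin 11) (w : W24) : ZMod 12 := ((entry monSub j w.idx - 1 : ℕ) : ZMod 12)

theorem mon_mul : ∀ j w w', monIn j w → monIn j w' → monIn j (w * w') ∧ monMu j (w * w') = monMu j w + monMu j w' := by
  decide +kernel

theorem mon_one : ∀ j, monIn j 1 ∧ monMu j 1 = 0 := by decide +kernel

theorem mon_inv : ∀ j w, monIn j w → monIn j w⁻¹ := by decide +kernel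

theorem mon_fix : ∀ j w t, monIn j w → dotV (monL j) (act w t) = dotV (monL j) t := by decide +kernel

theorem four_val : ∀ a b : ZMod 3, (4 * (a + b).val : ℕ) = ((4 * a.val : ℕ) : ZMod 12) + ((4 * b.val : ℕ) : ZMod 12) := by
  decide +kernel

/-- The exponent of a monomial character. -/
def monExp (j : Fin 11) (x : Local648) : ZMod 12 :=
  ((4 * (dotV (monL j) x.left.toAdd).val : ℕ) : ZMod 12) + monMu j x.right

/-- The domain of a monomial character. -/
def monSubgroup (j : Fin 11) : Subgroup Local648 where
  carrier := {x | monIn j x.right}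
  one_mem' := (mon_one j).1
  mul_mem' {x y} hx hy := by
    simpa [SemidirectProduct.mul_right] using (mon_mul j _ _ hx hy).1
  inv_mem' {x} hx := by
    simpa [SemidirectProduct.inv_right] using mon_inv j _ hx

instance instDecidableMemMonSubgroup (j : Fin 11) (x : Local648) : Decidable (x ∈ monSubgroup j) :=
  inferInstanceAs (Decidable (monIn j x.right))

theorem monExp_mul (j : Fin 11) (x y : Local648) (hx : x ∈ monSubgroup j) (hy : y ∈ monSubgroup j) :
    monExp j (x * y) = monExp j x + monExp j y := by
  have hl : (x * y).left.toAdd = x.left.toAdd + act x.right y.left.toAdd := rfl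
  have hd : ∀ s t, dotV (monL j) (s + t) = dotV (monL j) s + dotV (monL j) t :=
    fun s t => CfsgLib.SmallGroups.ThreeCube.dotV_add _ _ _
  rw [monExp, monExp, monExp, hl, SemidirectProduct.mul_right, hd, mon_fix j _ _ hx, four_val,
    (mon_mul j _ _ hx hy).2]
  ring

/-- The index of each domain. -/
def monIndex : Fin 11 → ℕ := fun j => 24 / ((List.range 24).filter fun i => entry monSub j i != 0).length

theorem monIndex_spec : ∀ j, (Finset.univ.filter fun x : Local648 => x ∈ monSubgroup j).card * monIndex j = 648 := by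
  decide +kernel

/-- Reduction of a power of a twelfth root of unity. -/
def red (e : ZMod 12) (k : Fin 4) : ℤ := (redTab.getD e.val []).getD k 0

theorem red_step : red 0 = ![1, 0, 0, 0] ∧
    ∀ e : ZMod 12, red (e + 1) = ![-red e 3, red e 0, red e 1 + red e 3, red e 2] := by decide +kernel

/-- The monomial terms of a row. -/
def rowList (r : Fin 6) : List (ℤ × Fin 11) :=
  (rowTerms.getD r []).map fun p => (p.1, Fin.ofNat 11 p.2)

/-- The weight of one term at an element. -/
def termWeight (p : ℤ × Fin 11) (x : Local648) (k : Fin 4) : ℤ :=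
  if monIn p.2 x.right then p.1 * monIndex p.2 * red (monExp p.2 x) k else 0

/-- The weight of a row at an element. -/
def rowWeight (L : List (ℤ × Fin 11)) (x : Local648) (k : Fin 4) : ℤ := (L.map fun p => termWeight p x k).sum

/-- The members of a class. -/
def members (a : Fin 14) : List Local648 := (memTab.getD a []).map dec

theorem members_spec : ∀ a : Fin 14, (members a).Nodup ∧
    (members a).toFinset = Finset.univ.filter fun x => cls x = a := by decide +kernel

/-- The class sum of a row: the rational part and the coefficient of `√3`. -/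
def classSum (r : Fin 6) (a : Fin 14) : ℤ × ℤ := (sumTab.getD r []).getD a (0, 0)

theorem classSum_zero : ∀ r (a : Fin 14), 9 ≤ (a : ℕ) → classSum r a = (0, 0) := by decide +kernel

theorem classSum_spec : ∀ r a k, ((members a).map fun x => rowWeight (rowList r) x k).sum =
    ![(classSum r a).1, 2 * (classSum r a).2, 0, -(classSum r a).2] k := by decide +kernel

/-- The class sum on a deep class. -/
def deepSum (r : Fin 6) (a : Fin 9) : ℤ × ℤ := classSum r (a.castLE (by norm_num))

/-- Multiplication in `ℤ[√3]`. -/
def mul3 (p q : ℤ × ℤ) : ℤ × ℤ := (p.1 * q.1 + 3 * p.2 * q.2, p.1 * q.2 + p.2 * q.1)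

theorem deep_total : ∀ r, ∑ a, deepSum r a = (648 * (![0, 0, 1, 1, 0, 0] : Fin 6 → ℤ) r, 0) := by decide +kernel

theorem deep_gram : ∀ r r', ∑ a : Fin 9, (centOrd (a.castLE (by norm_num)) : ℤ) • mul3 (deepSum r a) (deepSum r' a) =
    (419904 * (![![3, -1, 1, -1, 0, 1], ![-1, 3, -1, -1, 1, -1], ![1, -1, 4, 1, -1, 0], ![-1, -1, 1, 4, -1, 0],
      ![0, 1, -1, -1, 2, 0], ![1, -1, 0, 0, 0, 2]] : Fin 6 → Fin 6 → ℤ) r r', 0) := by decide +kernel

/-- The structure constants of the rows. -/
def pairSum : Fin 6 → Fin 2 → Fin 2 → ℤ :=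
  ![![![1944, 0], ![0, 0]], ![![0, 0], ![0, 1944]], ![![2916, 972], ![972, 972]], ![![1944, 1944], ![1944, 0]],
    ![![0, 0], ![0, 0]], ![![0, 0], ![0, 0]]]

theorem pairSum_spec : ∀ r i j, ∑ a, (pairTab a i j : ℤ) • deepSum r a = (pairSum r i j, 0) := by decide +kernel

end CfsgLib.SmallGroups.AltNineNormalizer
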