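import Cfsg.Agent.Lib.SmallGroups.ThreeCube.Support
import Mathlib

/-!
Six short integral rows with prescribed inner products, and values on two classes.
-/

set_option autoImplicit false

namespace CfsgLib.SmallGroups.AltNineNormalizer

open CfsgLib.SmallGroups.ThreeCube (two_support three_support four_support full_support sq_le_of_sum unit_of_small
  support_card)

/-- The inner products of the six rows. -/
def gram6 : Fin 6 → Fin 6 → ℤ :=
  ![![3, -1, 1, -1, 0, 1], ![-1, 3, -1, -1, 1, -1], ![1, -1, 4, 1, -1, 0], ![-1, -1, 1, 4, -1, 0],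
    ![0, 1, -1, -1, 2, 0], ![1, -1, 0, 0, 0, 2]]

/-- The coefficients of the trivial character. -/
def trivCoef : Fin 6 → ℤ := ![0, 0, 1, 1, 0, 0]

noncomputable def kVV : Fin 6 → ℝ := ![2 / 3, 0, 1, 2 / 3, 0, 0]

noncomputable def kVZ : Fin 6 → ℝ := ![0, 0, 2 / 3, 4 / 3, 0, 0]

noncomputable def kZZ : Fin 6 → ℝ := ![0, 8 / 3, 4 / 3, 0, 0, 0]

variable {ι : Type*} [Fintype ι]

/-- The data attached to the six rows. -/
structure Sys (c : Fin 6 → ι → ℤ) (d : ι → ℤ) (o : ι) (y z : ι → ℝ) : Prop where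
  gram : ∀ r r', ∑ χ, c r χ * c r' χ = gram6 r r'
  triv : ∀ r, c r o = trivCoef r
  deg_o : d o = 1
  pos : ∀ χ, 0 < d χ
  sum_d : ∀ r, ∑ χ, c r χ * d χ = 0
  sum_y : ∀ r, ∑ χ, (c r χ : ℝ) * y χ = 0
  sum_z : ∀ r, ∑ χ, (c r χ : ℝ) * z χ = 0
  qyy : ∀ r, ∑ χ, (c r χ : ℝ) * (y χ * y χ / d χ) = kVV r
  qyz : ∀ r, ∑ χ, (c r χ : ℝ) * (y χ * z χ / d χ) = kVZ r
  qzz : ∀ r, ∑ χ, (c r χ : ℝ) * (z χ * z χ / d χ) = kZZ r

variable {c : Fin 6 → ι → ℤ} {d : ι → ℤ} {o : ι} {y z : ι → ℝ}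

theorem Sys.shift (h : Sys c d o y z) (a b : ℝ) :
    Sys c d o (fun χ => y χ - a * d χ) (fun χ => z χ - b * d χ) := by
  have hd : ∀ r, ∑ χ, (c r χ : ℝ) * (d χ : ℝ) = 0 := fun r => by exact_mod_cast h.sum_d r
  have hne : ∀ χ, (d χ : ℝ) ≠ 0 := fun χ => by exact_mod_cast (h.pos χ).ne'
  have lin : ∀ (F : ι → ℝ) (t : ℝ) r, ∑ χ, (c r χ : ℝ) * F χ = 0 →
      ∑ χ, (c r χ : ℝ) * (F χ - t * d χ) = 0 := fun F t r hF => by
    simp only [mul_sub, Finset.sum_sub_distrib, hF, mul_left_comm _ t, ← Finset.mul_sum, hd r]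
    ring
  have quad : ∀ (F F' : ι → ℝ) (s t : ℝ) r, ∑ χ, (c r χ : ℝ) * F χ = 0 → ∑ χ, (c r χ : ℝ) * F' χ = 0 →
      ∑ χ, (c r χ : ℝ) * ((F χ - s * d χ) * (F' χ - t * d χ) / d χ) = ∑ χ, (c r χ : ℝ) * (F χ * F' χ / d χ) := by
    intro F F' s t r h1 h2
    rw [Finset.sum_congr rfl fun χ _ => show (c r χ : ℝ) * ((F χ - s * d χ) * (F' χ - t * d χ) / d χ) =
        (c r χ : ℝ) * (F χ * F' χ / d χ) - t * ((c r χ : ℝ) * F χ) - s * ((c r χ : ℝ) * F' χ) +
          s * t * ((c r χ : ℝ) * d χ) by field_simp [hne χ]; ring]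
    simp only [Finset.sum_add_distrib, Finset.sum_sub_distrib, ← Finset.mul_sum, h1, h2, hd r]
    ring
  exact ⟨h.gram, h.triv, h.deg_o, h.pos, h.sum_d, fun r => lin y a r (h.sum_y r), fun r => lin z b r (h.sum_z r),
    fun r => (quad y y a a r (h.sum_y r) (h.sum_y r)).trans (h.qyy r),
    fun r => (quad y z a b r (h.sum_y r) (h.sum_z r)).trans (h.qyz r),
    fun r => (quad z z b b r (h.sum_z r) (h.sum_z r)).trans (h.qzz r)⟩

theorem expand_two {R : Type*} [CommRing R] {f : ι → ℤ} {p q : ι} (hpq : p ≠ q)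
    (hz : ∀ χ, χ ≠ p → χ ≠ q → f χ = 0) (F : ι → R) :
    ∑ χ, (f χ : R) * F χ = (f p : R) * F p + (f q : R) * F q := by
  classical
  rw [← Finset.sum_subset (Finset.subset_univ {p, q}) fun χ _ hχ => ?_, Finset.sum_pair hpq]
  simp only [Finset.mem_insert, Finset.mem_singleton, not_or] at hχ
  simp [hz χ hχ.1 hχ.2]

theorem expand_three {R : Type*} [CommRing R] {f : ι → ℤ} {p q r : ι} (hpq : p ≠ q) (hpr : p ≠ r) (hqr : q ≠ r)
    (hz : ∀ χ, χ ≠ p → χ ≠ q → χ ≠ r → f χ = 0) (F : ι → R) :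
    ∑ χ, (f χ : R) * F χ = (f p : R) * F p + (f q : R) * F q + (f r : R) * F r := by
  classical
  rw [← Finset.sum_subset (Finset.subset_univ {p, q, r}) fun χ _ hχ => ?_,
    Finset.sum_insert (by simp [hpq, hpr]), Finset.sum_pair hqr, add_assoc]
  simp only [Finset.mem_insert, Finset.mem_singleton, not_or] at hχ
  simp [hz χ hχ.1 hχ.2.1 hχ.2.2]

theorem expand_four {R : Type*} [CommRing R] {f : ι → ℤ} {p q r t : ι} (hpq : p ≠ q) (hpr : p ≠ r) (hpt : p ≠ t)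
    (hqr : q ≠ r) (hqt : q ≠ t) (hrt : r ≠ t) (hz : ∀ χ, χ ≠ p → χ ≠ q → χ ≠ r → χ ≠ t → f χ = 0) (F : ι → R) :
    ∑ χ, (f χ : R) * F χ = (f p : R) * F p + (f q : R) * F q + (f r : R) * F r + (f t : R) * F t := by
  classical
  rw [← Finset.sum_subset (Finset.subset_univ {p, q, r, t}) fun χ _ hχ => ?_,
    Finset.sum_insert (by simp [hpq, hpr, hpt]), Finset.sum_insert (by simp [hqr, hqt]), Finset.sum_pair hrt,
    add_assoc, add_assoc]
  simp only [Finset.mem_insert, Finset.mem_singleton, not_or] at hχ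
  simp [hz χ hχ.1 hχ.2.1 hχ.2.2.1 hχ.2.2.2]

theorem triple {f : ι → ℤ} (h : ∑ χ, f χ * f χ = 3) : ∃ p q r, p ≠ q ∧ p ≠ r ∧ q ≠ r ∧
    f p * f p = 1 ∧ f q * f q = 1 ∧ f r * f r = 1 ∧ ∀ χ, χ ≠ p → χ ≠ q → χ ≠ r → f χ = 0 := by
  classical
  obtain ⟨p, q, r, hpq, hpr, hqr, hs⟩ := Finset.card_eq_three.mp (support_card (n := 3) h (by norm_num))
  have hm : ∀ χ, f χ ≠ 0 ↔ χ = p ∨ χ = q ∨ χ = r := fun χ => by simpa using Finset.ext_iff.mp hs χ
  have hu : ∀ χ, f χ ≠ 0 → f χ * f χ = 1 := fun χ hχ => by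
    have := sq_le_of_sum h χ
    rcases unit_of_small (a := f χ) (by omega) with e | e | e <;> simp [e] at hχ ⊢
  exact ⟨p, q, r, hpq, hpr, hqr, hu p ((hm p).mpr (Or.inl rfl)), hu q ((hm q).mpr (Or.inr (Or.inl rfl))),
    hu r ((hm r).mpr (Or.inr (Or.inr rfl))), fun χ h1 h2 h3 => by
      by_contra h0
      rcases (hm χ).mp h0 with e | e | e
      exacts [h1 e, h2 e, h3 e]⟩

theorem unit_ne_zero {x : ℤ} (h : x * x = 1) : x ≠ 0 := by rintro rfl; norm_num at h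

theorem term_signed {σ : ℤ} (hσ : σ * σ = 1) (u u' d : ℝ) :
    (σ : ℝ) * (u * u' / d) = ((σ : ℝ) * u) * ((σ : ℝ) * u') / ((σ : ℝ) * d) := by
  rcases Int.eq_one_or_neg_one_of_mul_eq_one hσ with e | e <;> subst e <;> push_cast <;> ring

/-- A row with two units identifies two points. -/
theorem Sys.pair_row (h : Sys c d o y z) {r : Fin 6} {p q : ι} (hpq : p ≠ q) (hp : c r p * c r p = 1)
    (hq : c r q * c r q = 1) (hz : ∀ χ, χ ≠ p → χ ≠ q → c r χ = 0) : d p = d q ∧ y p = y q ∧ z p = z q := by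
  have ed := h.sum_d r
  have xd := expand_two (R := ℤ) hpq hz d
  have ey := h.sum_y r
  rw [expand_two hpq hz y] at ey
  have ez := h.sum_z r
  rw [expand_two hpq hz z] at ez
  simp only [Int.cast_id] at xd
  rw [xd] at ed
  have := h.pos p; have := h.pos q
  rcases Int.eq_one_or_neg_one_of_mul_eq_one hp with e | e <;>
    rcases Int.eq_one_or_neg_one_of_mul_eq_one hq with e' | e' <;>
      rw [e, e'] at ed ey ez <;> push_cast at ey ez <;>
        first | omega | exact ⟨by omega, by linarith, by linarith⟩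

/-- The common term of the first two rows. -/
theorem Sys.shared (h : Sys c d o y z) : ∃ m a b, m ≠ a ∧ m ≠ b ∧ a ≠ b ∧ c 0 m * c 0 m = 1 ∧ c 0 a * c 0 a = 1 ∧
    c 0 b * c 0 b = 1 ∧ (∀ χ, χ ≠ m → χ ≠ a → χ ≠ b → c 0 χ = 0) ∧ c 1 m = -c 0 m ∧ c 1 a = 0 ∧ c 1 b = 0 := by
  classical
  obtain ⟨p, q, r, hpq, hpr, hqr, hp, hq, hr, hz⟩ := triple (h.gram 0 0)
  have hY : ∑ χ, c 1 χ * c 1 χ = 3 := h.gram 1 1
  have e := h.gram 0 1
  have x := expand_three (R := ℤ) hpq hpr hqr hz (c 1)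
  simp only [Int.cast_id] at x
  rw [x, show gram6 0 1 = -1 from rfl] at e
  have small : ∀ χ, c 1 χ = 0 ∨ c 1 χ = 1 ∨ c 1 χ = -1 := fun χ => unit_of_small (sq_le_of_sum hY χ)
  have pick : ∀ {p' q' r' : ι}, p' ≠ q' → p' ≠ r' → q' ≠ r' → c 0 p' * c 0 p' = 1 → c 0 q' * c 0 q' = 1 →
      c 0 r' * c 0 r' = 1 → (∀ χ, χ ≠ p' → χ ≠ q' → χ ≠ r' → c 0 χ = 0) → c 1 p' = -c 0 p' → c 1 q' = 0 →
      c 1 r' = 0 → ∃ m a b, m ≠ a ∧ m ≠ b ∧ a ≠ b ∧ c 0 m * c 0 m = 1 ∧ c 0 a * c 0 a = 1 ∧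
        c 0 b * c 0 b = 1 ∧ (∀ χ, χ ≠ m → χ ≠ a → χ ≠ b → c 0 χ = 0) ∧ c 1 m = -c 0 m ∧ c 1 a = 0 ∧ c 1 b = 0 :=
    fun n1 n2 n3 u1 u2 u3 hz' e1 e2 e3 => ⟨_, _, _, n1, n2, n3, u1, u2, u3, hz', e1, e2, e3⟩
  have hall : c 1 p ≠ 0 → c 1 q ≠ 0 → c 1 r ≠ 0 → False := fun n1 n2 n3 => by
    have hinj : Function.Injective ![p, q, r] := by
      intro i j e
      fin_cases i <;> fin_cases j <;>
        first
          | rfl
          | exact absurd e hpq
          | exact absurd e.symm hpq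
          | exact absurd e hpr
          | exact absurd e.symm hpr
          | exact absurd e hqr
          | exact absurd e.symm hqr
    have hz' := (full_support (n := 3) hY hinj (fun k => by fin_cases k; exacts [n1, n2, n3]) (by simp)).2
    have hz1 : ∀ χ, χ ≠ p → χ ≠ q → χ ≠ r → c 1 χ = 0 := fun χ a1 a2 a3 => hz' χ fun k => by
      fin_cases k
      exacts [Ne.symm a1, Ne.symm a2, Ne.symm a3]
    have d0 := h.sum_d 0
    have d1 := h.sum_d 1
    have x0 := expand_three (R := ℤ) hpq hpr hqr hz d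
    have x1 := expand_three (R := ℤ) hpq hpr hqr hz1 d
    simp only [Int.cast_id] at x0 x1
    rw [x0] at d0
    rw [x1] at d1
    have := h.pos p; have := h.pos q; have := h.pos r
    rcases Int.eq_one_or_neg_one_of_mul_eq_one hp with a1 | a1 <;>
      rcases Int.eq_one_or_neg_one_of_mul_eq_one hq with a2 | a2 <;>
        rcases Int.eq_one_or_neg_one_of_mul_eq_one hr with a3 | a3 <;>
          rcases small p with b1 | b1 | b1 <;> rcases small q with b2 | b2 | b2 <;>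
            rcases small r with b3 | b3 | b3 <;>
              simp only [a1, a2, a3, b1, b2, b3] at d0 d1 e n1 n2 n3 <;> omega
  by_cases n1 : c 1 p = 0 <;> by_cases n2 : c 1 q = 0 <;> by_cases n3 : c 1 r = 0
  · rw [n1, n2, n3] at e; omega
  · rw [n1, n2] at e
    exact pick hpr.symm hqr.symm hpq hr hp hq (fun χ a b c => hz χ b c a)
      (by linear_combination c 0 r * e - c 1 r * hr) n1 n2
  · rw [n1, n3] at e
    exact pick hpq.symm hqr hpr hq hp hr (fun χ a b c => hz χ b a c)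
      (by linear_combination c 0 q * e - c 1 q * hq) n1 n3
  · exfalso
    rw [n1] at e
    rcases small q with b2 | b2 | b2 <;> rcases small r with b3 | b3 | b3 <;>
      rcases Int.eq_one_or_neg_one_of_mul_eq_one hq with a2 | a2 <;>
        rcases Int.eq_one_or_neg_one_of_mul_eq_one hr with a3 | a3 <;>
          simp [a2, a3, b2, b3] at e n2 n3 <;> omega
  · rw [n2, n3] at e
    exact pick hpq hpr hqr hp hq hr hz (by linear_combination c 0 p * e - c 1 p * hp) n2 n3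
  · exfalso
    rw [n2] at e
    rcases small p with b2 | b2 | b2 <;> rcases small r with b3 | b3 | b3 <;>
      rcases Int.eq_one_or_neg_one_of_mul_eq_one hp with a2 | a2 <;>
        rcases Int.eq_one_or_neg_one_of_mul_eq_one hr with a3 | a3 <;>
          simp [a2, a3, b2, b3] at e n1 n3 <;> omega
  · exfalso
    rw [n3] at e
    rcases small p with b2 | b2 | b2 <;> rcases small q with b3 | b3 | b3 <;>
      rcases Int.eq_one_or_neg_one_of_mul_eq_one hp with a2 | a2 <;>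
        rcases Int.eq_one_or_neg_one_of_mul_eq_one hq with a3 | a3 <;>
          simp [a2, a3, b2, b3] at e n1 n2 <;> omega
  · exact (hall n1 n2 n3).elim

end CfsgLib.SmallGroups.AltNineNormalizer
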